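import Groth.Agent.VarietyB.TensLoc
import Groth.Agent.S0217
import Groth.Agent.CurvesC.Dim1Top
import Groth.Agent.CurvesB.DimPts
import Mathlib.AlgebraicGeometry.Noetherian
import Mathlib.AlgebraicGeometry.FunctionField

/-!
# Affine covers of a curve adapted to a section

* `IsBasis.replace`: replacing a member of a frame.
* `exists_pair`: a nonempty affine open `V` of an integral separated Noetherian scheme of dimension `≤ 1` and an affine
  open `U` with `U ⊔ V = ⊤`.
* `exists_adapted`: `σ : L ⟶ A` nonzero, `L` of rank one, `A` locally free of rank `n + 1`: affine opens `U ⊔ V = ⊤`, frames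
  `l` of `L` and `e` of `A` over `V` with `σ(l) = e₀`.
-/

set_option autoImplicit false

universe u

open CategoryTheory CategoryTheory.Limits AlgebraicGeometry Opposite TopologicalSpace

namespace K774.CurveCov

open Groth.Agent.VarietyB.TensLoc (IsBasis res res_res res_smul exists_isBasis)

variable {X : Scheme.{u}}

theorem hasApp_smul {M N : X.Modules} (φ : M ⟶ N) {V : X.Opens} (r : Γ(X, V)) (s : Γ(M, V)) :
    φ.app V (r • s) = r • φ.app V s := Scheme.Modules.Hom.app_smul φ r s

theorem res_app {M N : X.Modules} (φ : M ⟶ N) {V W : X.Opens} (h : W ≤ V) (s : Γ(M, V)) :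
    res N h (φ.app V s) = φ.app W (res M h s) := by
  have := congr($(φ.mapPresheaf.naturality (homOfLE h).op) s)
  simp only [Scheme.Modules.mapPresheaf_app, ConcreteCategory.comp_apply] at this
  exact this.symm

theorem res_sum (M : X.Modules) {V W : X.Opens} (h : W ≤ V) {ι : Type*} (t : Finset ι) (f : ι → Γ(M, V)) :
    res M h (∑ i ∈ t, f i) = ∑ i ∈ t, res M h (f i) :=
  map_sum (M.presheaf.map (homOfLE h).op).hom f t

/-- Replacing a member of a frame by a section whose coordinate is a unit. -/
theorem replace {A : X.Modules} {V : X.Opens} {n : ℕ} {e : Fin n → Γ(A, V)} (he : IsBasis A V e) (j : Fin n)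
    (a : Fin n → Γ(X, V)) (ha : IsUnit (a j)) :
    IsBasis A V (fun i => if i = j then ∑ k, a k • e k else e i) := by
  classical
  intro V' h
  obtain ⟨b, hb⟩ := (ha.map (X.presheaf.map (homOfLE h).op).hom).exists_right_inv
  set a' : Fin n → Γ(X, V') := fun i => X.presheaf.map (homOfLE h).op (a i) with ha'
  have hb' : a' j * b = 1 := hb
  let T : (Fin n → Γ(X, V')) → (Fin n → Γ(X, V')) := fun c i => if i = j then c j * a' j else c i + c j * a' i
  have hT : Function.Bijective T := by
    refine Function.bijective_iff_has_inverse.mpr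
      ⟨fun d i => if i = j then d j * b else d i - d j * b * a' i, fun c => ?_, fun d => ?_⟩
    · funext i
      by_cases hi : i = j
      · subst hi
        simp only [T, if_pos]
        rw [mul_assoc, hb', mul_one]
      · simp only [T, if_neg hi, if_pos]
        have : c j * a' j * b * a' i = c j * a' i := by
          rw [mul_assoc (c j), hb', mul_one]
        rw [this, add_sub_cancel_right]
    · funext i
      by_cases hi : i = j
      · subst hi
        simp only [T, if_pos]
        rw [mul_assoc, mul_comm b, hb', mul_one]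
      · simp only [T, if_neg hi, if_pos]
        rw [sub_add_cancel]
  have hcomp : (fun c : Fin n → Γ(X, V') => ∑ i, c i • res A h (if i = j then ∑ k, a k • e k else e i)) =
      (fun d : Fin n → Γ(X, V') => ∑ i, d i • res A h (e i)) ∘ T := by
    funext c
    have h1 : res A h (∑ k, a k • e k) = ∑ k, a' k • res A h (e k) := by
      rw [res_sum]
      exact Finset.sum_congr rfl fun k _ => res_smul A h _ _
    have h2 : ∀ i, c i • res A h (if i = j then ∑ k, a k • e k else e i) =
        if i = j then ∑ k, (c j * a' k) • res A h (e k) else c i • res A h (e i) := by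
      intro i
      by_cases hi : i = j
      · subst hi
        rw [if_pos rfl, if_pos rfl, h1, Finset.smul_sum]
        exact Finset.sum_congr rfl fun k _ => (mul_smul _ _ _).symm
      · rw [if_neg hi, if_neg hi]
    rw [Function.comp_apply, Finset.sum_congr rfl fun i _ => h2 i]
    have h3 : (∑ i, if i = j then ∑ k, (c j * a' k) • res A h (e k) else c i • res A h (e i)) =
        (∑ k, (c j * a' k) • res A h (e k)) + ∑ i, (if i = j then 0 else c i • res A h (e i)) := by
      have h4 : (∑ k, (c j * a' k) • res A h (e k)) =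
          ∑ i, (if i = j then (∑ k, (c j * a' k) • res A h (e k)) else 0) := by
        rw [Finset.sum_ite_eq' Finset.univ j]
        simp
      rw [h4, ← Finset.sum_add_distrib]
      refine Finset.sum_congr rfl fun i _ => ?_
      by_cases hi : i = j <;> simp [hi]
    rw [h3, ← Finset.sum_add_distrib]
    refine Finset.sum_congr rfl fun i _ => ?_
    by_cases hi : i = j
    · subst hi
      simp only [T, if_pos, add_zero]
    · simp only [T, if_neg hi]
      rw [add_smul, add_comm]
  rw [hcomp]
  exact (he V' h).comp hT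

/-- Reordering a frame. -/
theorem reorder {A : X.Modules} {V : X.Opens} {n : ℕ} {e : Fin n → Γ(A, V)} (he : IsBasis A V e)
    (p : Equiv.Perm (Fin n)) : IsBasis A V (fun i => e (p i)) := by
  intro V' h
  have hcomp : (fun c : Fin n → Γ(X, V') => ∑ i, c i • res A h (e (p i))) =
      (fun d : Fin n → Γ(X, V') => ∑ i, d i • res A h (e i)) ∘ (Equiv.arrowCongr p (Equiv.refl _)) := by
    funext c
    have h5 := Equiv.sum_comp p (fun i => c (p.symm i) • res A h (e i))
    simp only [Equiv.symm_apply_apply] at h5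
    exact h5
  rw [hcomp]
  exact (he V' h).comp (Equiv.bijective _)

/-- Replacing a member of a frame, the new member being the first one. -/
theorem replace_zero {A : X.Modules} {V : X.Opens} {n : ℕ} {e : Fin (n + 1) → Γ(A, V)} (he : IsBasis A V e)
    (j : Fin (n + 1)) (v : Γ(A, V)) (a : Fin (n + 1) → Γ(X, V)) (hv : v = ∑ k, a k • e k) (ha : IsUnit (a j)) :
    ∃ e' : Fin (n + 1) → Γ(A, V), IsBasis A V e' ∧ e' 0 = v := by
  classical
  refine ⟨_, reorder (replace he j a ha) (Equiv.swap 0 j), ?_⟩
  rw [Equiv.swap_apply_left, if_pos rfl, hv]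

theorem stalk_le (hdim : topologicalKrullDim X ≤ 1) (x : X) : ringKrullDim (X.presheaf.stalk x) ≤ 1 :=
  (Groth.Agent.CurvesB.DimPts.ringKrullDim_stalk_le x).trans hdim

/-- Completing a nonempty affine open of a curve to an affine cover. -/
theorem exists_pair [IsIntegral X] [X.IsSeparated] [IsNoetherian X] (hdim : topologicalKrullDim X ≤ 1)
    (V : X.Opens) (hV : (V : Set X).Nonempty) : ∃ U : X.Opens, IsAffineOpen U ∧ U ⊔ V = ⊤ := by
  classical
  have hf : ((V : Set X)ᶜ).Finite := by
    refine Groth.Agent.CurvesC.Dim1Top.finite_of_isClosed hdim V.isOpen.isClosed_compl ?_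
    intro h
    obtain ⟨x, hx⟩ := hV
    exact (h ▸ Set.mem_univ x : x ∈ (V : Set X)ᶜ) hx
  obtain ⟨U, hU, hUx⟩ := Groth.Agent.S0217.result X (fun U _ => by
      have : NoetherianSpace (U : Set X) := inferInstance
      exact NoetherianSpace.finite_irreducibleComponents) hf.toFinset
    (fun x _ => ⟨inferInstance, stalk_le hdim x⟩)
  refine ⟨U, hU, ?_⟩
  ext x
  simp only [Opens.coe_sup, Opens.coe_top, Set.mem_univ, iff_true]
  by_cases hx : x ∈ V
  · exact Or.inr hx
  · exact Or.inl (hUx x (hf.mem_toFinset.2 hx))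

/-- Coefficients of a section with respect to a frame are determined on smaller nonempty opens. -/
theorem res_injective [IsIntegral X] {A : X.Modules} {V : X.Opens} {n : ℕ} {e : Fin n → Γ(A, V)}
    (he : IsBasis A V e) {V' : X.Opens} (h : V' ≤ V) (hne : (V' : Set X).Nonempty) (s : Γ(A, V))
    (hs : res A h s = 0) : s = 0 := by
  obtain ⟨c, hc⟩ := (he V le_rfl).2 s
  have hnV : Nonempty V' := hne.to_subtype
  have h1 : res A h s = ∑ i, X.presheaf.map (homOfLE h).op (c i) • res A h (e i) := by
    rw [← hc]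
    refine (res_sum A h _ _).trans (Finset.sum_congr rfl fun i _ => ?_)
    rw [res_smul, res_res]
  have h2 := (he V' h).1 (a₁ := fun i => X.presheaf.map (homOfLE h).op (c i)) (a₂ := 0) (by
    change ∑ i, _ = ∑ i, _
    rw [← h1, hs]
    simp)
  have h3 : c = 0 := by
    funext i
    exact map_injective_of_isIntegral X (homOfLE h) (by simpa using congrFun h2 i)
  rw [← hc, h3]
  simp

theorem exists_mem_inf [IsIntegral X] {V W : X.Opens} (hV : (V : Set X).Nonempty) (hW : (W : Set X).Nonempty) :
    ((V ⊓ W : X.Opens) : Set X).Nonempty :=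
  nonempty_preirreducible_inter V.isOpen W.isOpen hV hW

/-- A morphism into a locally free module which vanishes on a nonempty open is zero. -/
theorem hom_eq_zero [IsIntegral X] {L A : X.Modules} {n : ℕ} (hA : FlatMod.IsFinLocFreeOfRank n A) (σ : L ⟶ A)
    {W : X.Opens} (hW : (W : Set X).Nonempty) (h : ∀ (V : X.Opens) (_ : V ≤ W) (s : Γ(L, V)), σ.app V s = 0) :
    σ = 0 := by
  ext V s
  refine Groth.Agent.VarietyB.TensLoc.eq_of_locally _ _ fun x hx => ?_
  obtain ⟨V1, hx1, e, he⟩ := exists_isBasis hA x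
  refine ⟨V ⊓ V1, inf_le_left, ⟨hx, hx1⟩, ?_⟩
  have hne := exists_mem_inf (V := V ⊓ V1) ⟨x, hx, hx1⟩ hW
  have h0 := res_injective (he.restrict (inf_le_right : V ⊓ V1 ≤ V1)) (inf_le_left : V ⊓ V1 ⊓ W ≤ _) hne
    (res A inf_le_left (σ.app V s)) (by
      rw [res_app, res_app]
      exact h _ inf_le_right _)
  rw [h0]
  exact (map_zero _).symm

/-- Frames adapted to a nonzero morphism out of an invertible module. -/
theorem exists_frame [IsIntegral X] {L A : X.Modules} {n : ℕ} (hL : FlatMod.IsFinLocFreeOfRank 1 L)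
    (hA : FlatMod.IsFinLocFreeOfRank (n + 1) A) (σ : L ⟶ A) (hσ : σ ≠ 0) {W : X.Opens} (hW : (W : Set X).Nonempty) :
    ∃ (V : X.Opens) (_ : V ≤ W) (_ : IsAffineOpen V) (_ : (V : Set X).Nonempty) (l : Fin 1 → Γ(L, V))
      (e : Fin (n + 1) → Γ(A, V)), IsBasis L V l ∧ IsBasis A V e ∧ σ.app V (l 0) = e 0 := by
  classical
  obtain ⟨x, hx⟩ := hW
  obtain ⟨V1, hx1, l, hl⟩ := exists_isBasis hL x
  obtain ⟨V2, hx2, e, he⟩ := exists_isBasis hA x
  obtain ⟨V0, hV0, hx0, hV0le⟩ := X.isBasis_affineOpens.exists_subset_of_mem_open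
    (show x ∈ ((W ⊓ (V1 ⊓ V2) : X.Opens) : Set X) from ⟨hx, hx1, hx2⟩) (W ⊓ (V1 ⊓ V2)).isOpen
  obtain ⟨V0, rfl⟩ : ∃ V0' : X.Opens, (V0' : Set X) = V0 := by
    obtain ⟨V0', -, h⟩ := hV0
    exact ⟨V0', h⟩
  have hle : V0 ≤ W ⊓ (V1 ⊓ V2) := hV0le
  have h1 : V0 ≤ V1 := hle.trans (inf_le_right.trans inf_le_left)
  have h2 : V0 ≤ V2 := hle.trans (inf_le_right.trans inf_le_right)
  have hV0a : IsAffineOpen V0 := by
    obtain ⟨V0', h, h'⟩ := hV0
    have : V0' = V0 := Opens.ext h'
    exact this ▸ h
  have hl0 := hl.restrict h1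
  have he0 := he.restrict h2
  obtain ⟨a, ha⟩ := (he0 V0 le_rfl).2 (σ.app V0 (res L h1 (l 0)))
  have ha' : σ.app V0 (res L h1 (l 0)) = ∑ k, a k • res A h2 (e k) := by
    rw [← ha]
    refine Finset.sum_congr rfl fun i _ => ?_
    rw [res_res]
  obtain ⟨j, hj⟩ : ∃ j, a j ≠ 0 := by
    by_contra hcon
    push Not at hcon
    apply hσ
    refine hom_eq_zero hA σ (W := V0) ⟨x, hx0⟩ fun V hV s => ?_
    obtain ⟨c, hc⟩ := (hl0 V hV).2 s
    have hc' : s = c 0 • res L hV (res L h1 (l 0)) := by
      rw [← hc]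
      exact Fin.sum_univ_one _
    rw [hc', hasApp_smul, ← res_app, ha']
    simp [hcon]
  have hne : ((X.basicOpen (a j) : X.Opens) : Set X).Nonempty := by
    rw [Set.nonempty_iff_ne_empty]
    intro h
    apply hj
    have : X.basicOpen (a j) = ⊥ := by
      ext y
      rw [h]
      simp
    exact (basicOpen_eq_bot_iff (a j)).1 this
  have hb : X.basicOpen (a j) ≤ V0 := X.basicOpen_le _
  have hu : IsUnit (X.presheaf.map (homOfLE hb).op (a j)) := RingedSpace.isUnit_res_basicOpen _ _
  have hv : σ.app (X.basicOpen (a j)) (res L hb (res L h1 (l 0))) =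
      ∑ k, X.presheaf.map (homOfLE hb).op (a k) • res A hb (res A h2 (e k)) := by
    rw [← res_app, ha', res_sum]
    exact Finset.sum_congr rfl fun k _ => res_smul A hb _ _
  obtain ⟨e', he', h0⟩ := replace_zero (he0.restrict hb) j _ _ hv hu
  exact ⟨X.basicOpen (a j), hb.trans (hle.trans inf_le_left), hV0a.basicOpen _, hne, _, e',
    hl0.restrict hb, he', h0.symm⟩

/-- Affine covers and frames adapted to a nonzero morphism out of an invertible module on a curve. -/
theorem exists_adapted [IsIntegral X] [X.IsSeparated] [IsNoetherian X] (hdim : topologicalKrullDim X ≤ 1)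
    {L A : X.Modules} {n : ℕ} (hL : FlatMod.IsFinLocFreeOfRank 1 L)
    (hA : FlatMod.IsFinLocFreeOfRank (n + 1) A) (σ : L ⟶ A) (hσ : σ ≠ 0) :
    ∃ (U V : X.Opens) (_ : IsAffineOpen U) (_ : IsAffineOpen V) (_ : U ⊔ V = ⊤) (l : Fin 1 → Γ(L, V))
      (e : Fin (n + 1) → Γ(A, V)), IsBasis L V l ∧ IsBasis A V e ∧ σ.app V (l 0) = e 0 := by
  obtain ⟨V, -, hV, hne, l, e, hl, he, h0⟩ := exists_frame hL hA σ hσ (W := ⊤) ⟨genericPoint X, trivial⟩
  obtain ⟨U, hU, hUV⟩ := exists_pair hdim V hne
  exact ⟨U, V, hU, hV, hUV, l, e, hl, he, h0⟩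

end K774.CurveCov
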