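import Groth.Agent.BunMod.K774.Sec
import Groth.Agent.BunMod.K774.CurveCov
import Groth.Agent.CurvesC.ExtUnit
import Groth.Agent.CohqB.HSeqMod
import Groth.Agent.CohqB.HomPost
import Groth.Agent.PerfB.TensInv
import Groth.Agent.Grpsch.PicGrp
import Mathlib.Algebra.Homology.DerivedCategory.Ext.MapBijective

/-!
# Surjectivity of `H¹(End E) → H¹(E ⊗ N)` on a curve, in terms of extensions

`X` an integral separated Noetherian scheme of dimension `≤ 1`, `F = - ⊗ N` for an invertible module `N`.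

* `ext_surj`: `Ext¹(A, B) → Ext¹(L, B)` is onto for `0 ≠ σ : L ⟶ A`, `L` invertible.
* `ext_surj_traceless`: for `A` of rank `≥ 2` every class in `Ext¹(L, A)` is the image of the class of a traceless Čech
  extension of `A` by `A`.
* `exists_ses`: for `0 ≠ s ∈ H⁰(E ⊗ N)` and `β ∈ H¹(E ⊗ N)` there is `S : 0 ⟶ E ⟶ G ⟶ E ⟶ 0` with
  `δ_{S ⊗ N}(s) = β`.
* `exists_traceless`: the same with `S = Sx φ`, `φ` traceless, if the rank of `E` is `≥ 2`.
-/

set_option autoImplicit false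

universe w u

open CategoryTheory CategoryTheory.Limits AlgebraicGeometry Opposite TopologicalSpace Abelian

namespace K774.D1

open Groth.Agent.PerfC.ExtZero Groth.Agent.PerfA.TFMV K774.LocHom K774.CechExt K774.Sec
open Groth.Agent.VarietyB.TensLoc (IsBasis)
open Groth.Agent.CurvesC.ExtUnit (extHH extHH_comp_mk₀ extHH_comp_extClass)
open Groth.Agent.CohqB.HSeqMod (hmap δ δ_naturality)

variable {X : Scheme.{u}}

theorem isFinLocFree {A : X.Modules} {n : ℕ} (hA : FlatMod.IsFinLocFreeOfRank n A) : FlatMod.IsFinLocFree A :=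
  Groth.Agent.Ega2.QCohLocal.isFinLocFree_of_rank hA

theorem isQCoh {A : X.Modules} (hA : FlatMod.IsFinLocFree A) : Coh.IsQCoh A :=
  Groth.Agent.Ega2.QCohLocal.isQCoh_of_isFinLocFree hA

/-- Projectivity of the sections of a finite locally free module over an affine open. -/
theorem projective {A : X.Modules} (hA : FlatMod.IsFinLocFree A) {U : X.Opens} (hU : IsAffineOpen U) :
    Module.Projective Γ(X, U) Γ(A, U) :=
  (Groth.Agent.CohqB.HomPost.projective_sections hA hU).2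

theorem δ_extHH [HasExt.{w} X.Modules] {S : ShortComplex X.Modules} (hS : S.ShortExact)
    (x : Ext.{w} (Coh.structureModule X) S.X₃ 0) :
    δ hS 0 (extHH S.X₃ 0 x) = extHH S.X₁ 1 (x.comp hS.extClass (zero_add 1)) := by
  rw [extHH_comp_extClass hS x (zero_add 1)]
  rfl

theorem hmap_extHH [HasExt.{w} X.Modules] {F G : X.Modules} (n : ℕ) (x : Ext.{w} (Coh.structureModule X) F n)
    (f : F ⟶ G) : hmap f n (extHH F n x) = extHH G n (x.comp (Ext.mk₀ f) (add_zero n)) :=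
  (extHH_comp_mk₀ n x f).symm

section Curve

variable [IsIntegral X] [X.IsSeparated] [IsNoetherian X] (hdim : topologicalKrullDim X ≤ 1)
include hdim

/-- `Ext¹(A, B) → Ext¹(L, B)` is onto for a nonzero morphism `L ⟶ A` from an invertible module. -/
theorem ext_surj [HasExt.{w} X.Modules] {L A B : X.Modules} {n : ℕ} (hL : FlatMod.IsFinLocFreeOfRank 1 L)
    (hA : FlatMod.IsFinLocFreeOfRank (n + 1) A) (hB : Coh.IsQCoh B) (σ : L ⟶ A) (hσ : σ ≠ 0) (y : Ext.{w} L B 1) :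
    ∃ x : Ext.{w} A B 1, (Ext.mk₀ σ).comp x (zero_add 1) = y := by
  obtain ⟨U, V, hU, hV, hUV, l, e, hl, he, h0⟩ := K774.CurveCov.exists_adapted hdim hL hA σ hσ
  have hLf := isFinLocFree hL
  have hAf := isFinLocFree hA
  obtain ⟨ψ, hψ⟩ := exists_cls.{w} hUV hU hV (isQCoh hLf) hB (projective hLf hU) (projective hLf hV) y
  have hD : IsAffineOpen (U ⊓ V) := hU.inf hV
  obtain ⟨φ, hφ⟩ := exists_factor (B := B) (isQCoh hAf) (isQCoh hLf) hD (inf_le_right : U ⊓ V ≤ V) σ he hl h0 ψ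
  exact ⟨cls hUV φ, by rw [comp_cls, hφ, hψ]⟩

/-- Every class in `Ext¹(L, A)` is the image of the class of a traceless Čech extension of `A` by `A`. -/
theorem ext_surj_traceless [HasExt.{w} X.Modules] {L A : X.Modules} {n : ℕ} (hL : FlatMod.IsFinLocFreeOfRank 1 L)
    (hA : FlatMod.IsFinLocFreeOfRank (n + 2) A) (σ : L ⟶ A) (hσ : σ ≠ 0) (y : Ext.{w} L A 1) :
    ∃ (U V : X.Opens) (_ : IsAffineOpen U) (_ : IsAffineOpen V) (hUV : U ⊔ V = ⊤) (e : Fin (n + 2) → Γ(A, V))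
      (_ : IsBasis A V e) (φ : (TF (U ⊓ V)).obj A ⟶ A),
      LinearMap.trace Γ(X, (U ⊓ V : X.Opens)) Γ(A, U ⊓ V) (sec φ le_rfl) = 0 ∧
        (Ext.mk₀ σ).comp (cls hUV φ) (zero_add 1) = y := by
  obtain ⟨U, V, hU, hV, hUV, l, e, hl, he, h0⟩ := K774.CurveCov.exists_adapted hdim hL hA σ hσ
  have hLf := isFinLocFree hL
  have hAf := isFinLocFree hA
  obtain ⟨ψ, hψ⟩ := exists_cls.{w} hUV hU hV (isQCoh hLf) (isQCoh hAf) (projective hLf hU) (projective hLf hV) y
  have hD : IsAffineOpen (U ⊓ V) := hU.inf hV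
  obtain ⟨φ, hφ, ht⟩ := exists_factor_traceless (isQCoh hAf) (isQCoh hLf) hD (inf_le_right : U ⊓ V ≤ V) σ he hl h0 ψ
  exact ⟨U, V, hU, hV, hUV, e, he, φ, ht, by rw [comp_cls, hφ, hψ]⟩

end Curve

section Twist

variable {N N' : X.Modules}

/-- The functor `- ⊗ N`. -/
noncomputable abbrev tw (N : X.Modules) : X.Modules ⥤ X.Modules := DCoh.tensorRightMod N

/-- `- ⊗ N` is an equivalence. -/
theorem isEquivalence_tw (e : (tw N).obj N' ≅ Coh.structureModule X) : (tw N).IsEquivalence :=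
  (CategoryTheory.Equivalence.mk (tw N) (tw N')
    (Groth.Agent.PerfB.TensInv.tensorInvIso ((Groth.Agent.Ega2.Tens.swap N N') ≪≫ e)).symm
    (Groth.Agent.PerfB.TensInv.tensorInvIso e)).isEquivalence_functor

theorem exact_tw (hN : PicF.IsInvertible N) : PreservesFiniteLimits (tw N) :=
  Groth.Agent.PerfB.TensInv.preservesFiniteLimits_of_isInvertible hN

/-- Tensoring a short exact sequence with an invertible module. -/
theorem shortExact_tw (hN : PicF.IsInvertible N) {S : ShortComplex X.Modules} (hS : S.ShortExact) :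
    (S.map (tw N)).ShortExact := by
  have := exact_tw hN
  have : PreservesFiniteColimits (tw N) := inferInstance
  exact hS.map_of_exact _

/-- The section of `N' ⊗ N`. -/
noncomputable def one [HasExt.{w} X.Modules] (e : (tw N).obj N' ≅ Coh.structureModule X) :
    Coh.HH X ((tw N).obj N') 0 := extHH.{w} ((tw N).obj N') 0 (Ext.mk₀ e.inv)

/-- Sections of `E ⊗ N` as morphisms `N' ⟶ E`. -/
theorem exists_sec_hom [HasExt.{w} X.Modules] (e : (tw N).obj N' ≅ Coh.structureModule X) {E : X.Modules}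
    (s : Coh.HH X ((tw N).obj E) 0) : ∃ σ : N' ⟶ E, s = hmap ((tw N).map σ) 0 (one.{w} e) := by
  have := isEquivalence_tw e
  obtain ⟨x, hx⟩ := (extHH.{w} ((tw N).obj E) 0).surjective s
  obtain ⟨t, rfl⟩ := (Ext.mk₀_bijective _ _).2 x
  obtain ⟨σ, hσ⟩ := (tw N).map_surjective (X := N') (Y := E) (e.hom ≫ t)
  refine ⟨σ, ?_⟩
  rw [← hx, one, hmap_extHH, Ext.mk₀_comp_mk₀, hσ, Iso.inv_hom_id_assoc]

/-- Classes in `H¹(E ⊗ N)` as classes in `Ext¹(N', E)`. -/
theorem exists_ext [HasExt.{w} X.Modules] (hN : PicF.IsInvertible N) (e : (tw N).obj N' ≅ Coh.structureModule X)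
    {E : X.Modules} (β : Coh.HH X ((tw N).obj E) 1) :
    ∃ y : Ext.{w} N' E 1, ∀ {A : X.Modules} (σ : N' ⟶ A) {G : X.Modules} (f : E ⟶ G) (g : G ⟶ A) (w : f ≫ g = 0)
      (hS : (ShortComplex.mk f g w).ShortExact)
      (hSN : ((ShortComplex.mk f g w).map (tw N)).ShortExact),
      (Ext.mk₀ σ).comp hS.extClass (zero_add 1) = y →
      δ hSN 0 (hmap ((tw N).map σ) 0 (one.{w} e)) = β := by
  have := isEquivalence_tw e
  have := exact_tw hN
  have : PreservesFiniteColimits (tw N) := inferInstance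
  have := Groth.Agent.Dcoh.DerSch.enoughInjectives X
  obtain ⟨y, hy⟩ := ((tw N).mapExt_bijective_of_preservesInjectiveObjects N' E 1).2
    ((Ext.mk₀ e.hom).comp ((extHH.{w} ((tw N).obj E) 1).symm β) (zero_add 1))
  refine ⟨y, fun {A} σ {G} f g w hS hSN h => ?_⟩
  have h1 : (Ext.mk₀ ((tw N).map σ)).comp hSN.extClass (zero_add 1) =
      (Ext.mk₀ e.hom).comp ((extHH.{w} ((tw N).obj E) 1).symm β) (zero_add 1) := by
    rw [← hy, Functor.mapExtAddHom_apply, ← h, Ext.mapExactFunctor_comp, Ext.mapExactFunctor_mk₀,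
      Ext.mapExactFunctor_extClass]
    rfl
  rw [one, hmap_extHH]
  refine (δ_extHH hSN _).trans ?_
  have key : ∀ (b : Ext.{w} (Coh.structureModule X) ((tw N).obj E) 1) (c : Ext.{w} ((tw N).obj A) ((tw N).obj E) 1),
      (Ext.mk₀ ((tw N).map σ)).comp c (zero_add 1) = (Ext.mk₀ e.hom).comp b (zero_add 1) →
      ((Ext.mk₀ e.inv).comp (Ext.mk₀ ((tw N).map σ)) (add_zero 0)).comp c (zero_add 1) = b := by
    intro b c hbc
    rw [Ext.comp_assoc (a₂₃ := 1) _ _ _ (by lia) (by lia) (by lia), hbc,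
      ← Ext.comp_assoc (a₁₂ := 0) _ _ _ (by lia) (by lia) (by lia), Ext.mk₀_comp_mk₀, Iso.inv_hom_id,
      Ext.mk₀_id_comp]
  refine (congrArg (extHH.{w} ((tw N).obj E) 1) (key _ hSN.extClass h1)).trans ?_
  exact AddEquiv.apply_symm_apply _ _

end Twist

theorem exists_inv {N : X.Modules} (hN : PicF.IsInvertible N) :
    ∃ N' : X.Modules, FlatMod.IsFinLocFreeOfRank 1 N' ∧ Nonempty ((tw N).obj N' ≅ Coh.structureModule X) := by
  obtain ⟨N', hN', ⟨e⟩⟩ := Groth.Agent.Grpsch.PicGrp.exists_inverse hN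
  exact ⟨N', Groth.Agent.Ega2.QCohLocal.isFinLocFreeOfRank_one_iff.2 hN',
    ⟨Groth.Agent.Ega2.Tens.swap N' N ≪≫ e⟩⟩

theorem hasExt (X : Scheme.{u}) : HasExt.{u} X.Modules := by
  have := Groth.Agent.Dcoh.DerSch.enoughInjectives X
  exact hasExt_of_enoughInjectives _

section Main

variable [IsIntegral X] [X.IsSeparated] [IsNoetherian X] (hdim : topologicalKrullDim X ≤ 1)
include hdim

/-- For `0 ≠ s ∈ H⁰(E ⊗ N)` and `β ∈ H¹(E ⊗ N)` there is an extension of `E` by `E` with connecting map `s ↦ β`. -/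
theorem exists_ses {E N : X.Modules} {n : ℕ} (hE : FlatMod.IsFinLocFreeOfRank (n + 1) E) (hN : PicF.IsInvertible N)
    (s : Coh.HH X ((tw N).obj E) 0) (hs : s ≠ 0) (β : Coh.HH X ((tw N).obj E) 1) :
    ∃ (G : X.Modules) (f : E ⟶ G) (g : G ⟶ E) (w : f ≫ g = 0) (_ : (ShortComplex.mk f g w).ShortExact)
      (hSN : ((ShortComplex.mk f g w).map (tw N)).ShortExact), δ hSN 0 s = β := by
  have i1 := hasExt X
  have i2 := Groth.Agent.Dcoh.DerSch.enoughInjectives X
  obtain ⟨N', hN', ⟨e⟩⟩ := exists_inv hN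
  obtain ⟨σ, hsσ⟩ := exists_sec_hom.{u} e s
  obtain ⟨y, hy⟩ := exists_ext.{u} hN e β
  have hσ : σ ≠ 0 := by
    intro h0
    apply hs
    rw [hsσ, h0, Functor.map_zero, Groth.Agent.CohqB.HSeqMod.hmap_zero_apply]
  obtain ⟨x, hx⟩ := ext_surj hdim hN' hE (isQCoh (isFinLocFree hE)) σ hσ y
  obtain ⟨G, f, g, w, hS, hSx⟩ := K774.ExtPush.exists_shortExact x
  have h2 : (Ext.mk₀ σ).comp hS.extClass (zero_add 1) = y := by rw [hSx, hx]
  have h1 := hy σ f g w hS (shortExact_tw hN hS) h2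
  rw [← hsσ] at h1
  exact ⟨G, f, g, w, hS, shortExact_tw hN hS, h1⟩

/-- For `E` of rank `≥ 2`, `0 ≠ s ∈ H⁰(E ⊗ N)` and `β ∈ H¹(E ⊗ N)` there is a traceless Čech extension of `E` by `E` with
connecting map `s ↦ β`. -/
theorem exists_traceless {E N : X.Modules} {n : ℕ} (hE : FlatMod.IsFinLocFreeOfRank (n + 2) E)
    (hN : PicF.IsInvertible N) (s : Coh.HH X ((tw N).obj E) 0) (hs : s ≠ 0) (β : Coh.HH X ((tw N).obj E) 1) :
    ∃ (U V : X.Opens) (_ : IsAffineOpen U) (_ : IsAffineOpen V) (_ : U ⊔ V = ⊤) (b : Fin (n + 2) → Γ(E, V))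
      (_ : IsBasis E V b) (φ : (TF (U ⊓ V)).obj E ⟶ E) (hSN : ((Sx U V φ).map (tw N)).ShortExact),
      LinearMap.trace Γ(X, (U ⊓ V : X.Opens)) Γ(E, U ⊓ V) (sec φ le_rfl) = 0 ∧ δ hSN 0 s = β := by
  have i1 := hasExt X
  obtain ⟨N', hN', ⟨e⟩⟩ := exists_inv hN
  obtain ⟨σ, hsσ⟩ := exists_sec_hom.{u} e s
  obtain ⟨y, hy⟩ := exists_ext.{u} hN e β
  have hσ : σ ≠ 0 := by
    intro h0
    apply hs
    rw [hsσ, h0, Functor.map_zero, Groth.Agent.CohqB.HSeqMod.hmap_zero_apply]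
  obtain ⟨U, V, hU, hV, hUV, b, hb, φ, ht, hφ⟩ := ext_surj_traceless hdim hN' hE σ hσ y
  have hSx := shortExact_Sx hUV φ
  have h2 : (Ext.mk₀ σ).comp hSx.extClass (zero_add 1) = y := by rw [extClass_Sx hUV, hφ]
  have h1 := hy σ _ _ _ hSx (shortExact_tw hN hSx) h2
  rw [← hsσ] at h1
  exact ⟨U, V, hU, hV, hUV, b, hb, φ, shortExact_tw hN hSx, ht, h1⟩

end Main

end K774.D1
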