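import Groth.Agent.BunMod.K774.D1

/-!
# Filtered and traceless extension classes

`C : 0 ⟶ E₁ ⟶ E ⟶ E₂ ⟶ 0` a short exact sequence of locally free modules, `D` an affine open.

* `Split`: splittings over `D`.
* `exists_block`: `b₁`, `b₂`, `b` over `D` give `φ : E|_D ⟶ E|_D` with blocks `b₁`, `b₂` (filtered), trace `tr b₁ + tr b₂`.
* `exists_low`: `b : E₁|_D ⟶ E₂|_D` is induced by a traceless `φ`.
* `ext_surj_sub_quot`: `Ext¹(E, E) → Ext¹(E₁, E₂)` is onto, also with a traceless Čech extension.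
* `exists_filtered`: filtered classes with given classes on `E₁` and `E₂`.
-/

set_option autoImplicit false

universe w u

open CategoryTheory CategoryTheory.Limits AlgebraicGeometry Opposite TopologicalSpace Abelian

namespace K774.D1f

open Groth.Agent.PerfC.ExtZero Groth.Agent.PerfA.TFMV K774.LocHom K774.CechExt K774.Sec K774.D1
open Groth.Agent.VarietyB.TensLoc (IsBasis exists_isBasis)

variable {X : Scheme.{u}} {C : ShortComplex X.Modules} {D : X.Opens}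

/-- Splittings of a short exact sequence over an open. -/
structure Split (C : ShortComplex X.Modules) (D : X.Opens) where
  /-- the section -/
  s : (TF D).obj C.X₃ ⟶ C.X₂
  /-- the retraction -/
  r : (TF D).obj C.X₂ ⟶ C.X₁
  hs : s ≫ C.g = inc D C.X₃
  hr : (TF D).map C.f ≫ r = inc D C.X₁
  hrs : r ≫ C.f = inc D C.X₂ - (TF D).map C.g ≫ s

theorem exists_split (hC : C.ShortExact) (hD : IsAffineOpen D) (h3 : FlatMod.IsFinLocFree C.X₃)
    (h1 : Coh.IsQCoh C.X₁) : Nonempty (Split C D) := by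
  obtain ⟨s, hs⟩ := exists_lift (isQCoh h3) hD (projective h3 hD) hC h1 (inc D C.X₃)
  have hm := hC.mono_f
  have h0 : (inc D C.X₂ - (TF D).map C.g ≫ s) ≫ C.g = 0 := by
    rw [Preadditive.sub_comp, Category.assoc, hs, TF_map_inc, sub_self]
  have hr : hC.exact.lift _ h0 ≫ C.f = inc D C.X₂ - (TF D).map C.g ≫ s := hC.exact.lift_f _ h0
  refine ⟨⟨s, hC.exact.lift _ h0, hs, ?_, hr⟩⟩
  rw [← cancel_mono C.f, Category.assoc, hr, Preadditive.comp_sub, ← Category.assoc ((TF D).map C.f),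
    ← Functor.map_comp, C.zero, Functor.map_zero, zero_comp, sub_zero]
  exact TF_map_inc D C.f

namespace Split

variable (P : Split C D)

theorem map_lft : (TF D).map C.f ≫ lft P.r = 𝟙 _ := by
  rw [← cancel_mono (inc D C.X₁), Category.assoc, lft_inc, P.hr, Category.id_comp]

theorem lft_map : lft P.s ≫ (TF D).map C.g = 𝟙 _ := by
  rw [← cancel_mono (inc D C.X₃), Category.assoc, TF_map_inc, ← Category.assoc, lft_inc, P.hs, Category.id_comp]

/-- The sections of the section. -/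
theorem sec_s (x : Γ(C.X₃, D)) : C.g.app D (sec P.s le_rfl x) = x := by
  have h : sec (P.s ≫ C.g) le_rfl x = x := by
    rw [P.hs]
    exact inc_symm C.X₃ le_rfl x
  exact h

theorem sec_r (x : Γ(C.X₁, D)) : sec P.r le_rfl (C.f.app D x) = x := by
  rw [← sec_map, P.hr]
  exact inc_symm C.X₁ le_rfl x

theorem sec_rs (hC : C.ShortExact) (x : Γ(C.X₃, D)) : sec P.r le_rfl (sec P.s le_rfl x) = 0 := by
  have hm := hC.mono_f
  have h1 : lft P.s ≫ P.r = 0 := by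
    rw [← cancel_mono C.f, Category.assoc, P.hrs, Preadditive.comp_sub, lft_inc, ← Category.assoc, P.lft_map,
      Category.id_comp, sub_self, zero_comp]
  rw [← sec_lft, h1]
  rfl

end Split

/-- A linear map on sections. -/
noncomputable def lapp {A B : X.Modules} (f : A ⟶ B) (D : X.Opens) : Γ(A, D) →ₗ[Γ(X, D)] Γ(B, D) where
  toFun s := f.app D s
  map_add' _ _ := map_add _ _ _
  map_smul' r s := Scheme.Modules.Hom.app_smul f r s

/-- `b : E₁|_D ⟶ E₂|_D` is induced by a morphism `E|_D ⟶ E|_D`, traceless if the sections of `E` and `E₂` are free. -/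
theorem exists_low (P : Split C D) (hC : C.ShortExact) (b : (TF D).obj C.X₁ ⟶ C.X₃) :
    ∃ φ : (TF D).obj C.X₂ ⟶ C.X₂, (TF D).map C.f ≫ φ ≫ C.g = b ∧
      (Module.Free Γ(X, D) Γ(C.X₂, D) → Module.Finite Γ(X, D) Γ(C.X₂, D) →
        Module.Free Γ(X, D) Γ(C.X₃, D) → Module.Finite Γ(X, D) Γ(C.X₃, D) →
        LinearMap.trace Γ(X, D) Γ(C.X₂, D) (sec φ le_rfl) = 0) := by
  refine ⟨lft (lft P.r ≫ b) ≫ P.s, ?_, fun _ _ _ _ => ?_⟩
  · rw [Category.assoc, P.hs, lft_inc, ← Category.assoc, P.map_lft, Category.id_comp]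
  · have h1 : sec (lft (lft P.r ≫ b) ≫ P.s) (le_refl D) =
        sec P.s le_rfl ∘ₗ (sec b le_rfl ∘ₗ sec P.r le_rfl) := by
      ext x
      simp only [LinearMap.comp_apply]
      rw [sec_lft, sec_lft]
    rw [h1, LinearMap.trace_comp_comm']
    have h2 : (sec b (le_refl D) ∘ₗ sec P.r le_rfl) ∘ₗ sec P.s le_rfl = 0 := by
      ext x
      simp only [LinearMap.comp_apply, LinearMap.zero_apply]
      rw [P.sec_rs hC, map_zero]
    rw [h2, map_zero]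

/-- Block diagonal endomorphisms over `D`. -/
theorem exists_block (P : Split C D) (b₁ : (TF D).obj C.X₁ ⟶ C.X₁)
    (b₂ : (TF D).obj C.X₃ ⟶ C.X₃) :
    ∃ φ : (TF D).obj C.X₂ ⟶ C.X₂, (TF D).map C.f ≫ φ = b₁ ≫ C.f ∧ φ ≫ C.g = (TF D).map C.g ≫ b₂ ∧
      (Module.Free Γ(X, D) Γ(C.X₁, D) → Module.Finite Γ(X, D) Γ(C.X₁, D) →
        Module.Free Γ(X, D) Γ(C.X₂, D) → Module.Finite Γ(X, D) Γ(C.X₂, D) →
        Module.Free Γ(X, D) Γ(C.X₃, D) → Module.Finite Γ(X, D) Γ(C.X₃, D) →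
        LinearMap.trace Γ(X, D) Γ(C.X₂, D) (sec φ le_rfl) =
          LinearMap.trace Γ(X, D) Γ(C.X₁, D) (sec b₁ le_rfl) +
            LinearMap.trace Γ(X, D) Γ(C.X₃, D) (sec b₂ le_rfl)) := by
  have hgf : (TF D).map C.f ≫ (TF D).map C.g = 0 := by rw [← Functor.map_comp, C.zero, Functor.map_zero]
  refine ⟨lft P.r ≫ b₁ ≫ C.f + (TF D).map C.g ≫ lft b₂ ≫ P.s, ?_, ?_, fun _ _ _ _ _ _ => ?_⟩
  · rw [Preadditive.comp_add, ← Category.assoc ((TF D).map C.f) (lft P.r), P.map_lft, Category.id_comp,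
      ← Category.assoc ((TF D).map C.f) ((TF D).map C.g), hgf, zero_comp, add_zero]
  · rw [Preadditive.add_comp, Category.assoc, Category.assoc, C.zero, comp_zero, comp_zero, zero_add, Category.assoc,
      Category.assoc, P.hs, lft_inc]
  · have h1 : sec (lft P.r ≫ b₁ ≫ C.f) (le_refl D) = lapp C.f D ∘ₗ (sec b₁ le_rfl ∘ₗ sec P.r le_rfl) := by
      ext x
      simp only [LinearMap.comp_apply]
      rw [sec_lft]
      rfl
    have h2 : sec ((TF D).map C.g ≫ lft b₂ ≫ P.s) (le_refl D) = sec P.s le_rfl ∘ₗ (sec b₂ le_rfl ∘ₗ lapp C.g D) := by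
      ext x
      simp only [LinearMap.comp_apply]
      rw [sec_map, sec_lft]
      rfl
    rw [sec_add, map_add, h1, h2, LinearMap.trace_comp_comm' (sec b₁ le_rfl ∘ₗ sec P.r le_rfl) (lapp C.f D),
      LinearMap.trace_comp_comm' (sec b₂ le_rfl ∘ₗ lapp C.g D) (sec P.s le_rfl)]
    congr 2
    · ext x
      simp only [LinearMap.comp_apply]
      exact congrArg (sec b₁ le_rfl) (P.sec_r x)
    · ext x
      simp only [LinearMap.comp_apply]
      exact congrArg (sec b₂ le_rfl) (P.sec_s x)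

section Ext

variable {U V : X.Opens}

/-- `Ext¹(E, E) → Ext¹(E₁, E₂)` is onto (affine cover by two opens). -/
theorem ext_surj_sub_quot [HasExt.{w} X.Modules] (hUV : U ⊔ V = ⊤) (hU : IsAffineOpen U) (hV : IsAffineOpen V)
    (hUVa : IsAffineOpen (U ⊓ V)) (hC : C.ShortExact) (h1 : FlatMod.IsFinLocFree C.X₁)
    (h3 : FlatMod.IsFinLocFree C.X₃) (x : Ext.{w} C.X₁ C.X₃ 1) :
    ∃ φ : (TF (U ⊓ V)).obj C.X₂ ⟶ C.X₂,
      (Ext.mk₀ C.f).comp ((cls hUV φ).comp (Ext.mk₀ C.g) (add_zero 1)) (zero_add 1) = x ∧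
      (Module.Free Γ(X, (U ⊓ V : X.Opens)) Γ(C.X₂, U ⊓ V) → Module.Finite Γ(X, (U ⊓ V : X.Opens)) Γ(C.X₂, U ⊓ V) →
        Module.Free Γ(X, (U ⊓ V : X.Opens)) Γ(C.X₃, U ⊓ V) → Module.Finite Γ(X, (U ⊓ V : X.Opens)) Γ(C.X₃, U ⊓ V) →
        LinearMap.trace Γ(X, (U ⊓ V : X.Opens)) Γ(C.X₂, U ⊓ V) (sec φ le_rfl) = 0) := by
  obtain ⟨b, hb⟩ := exists_cls.{w} hUV hU hV (isQCoh h1) (isQCoh h3) (projective h1 hU) (projective h1 hV) x
  obtain ⟨P⟩ := exists_split hC hUVa h3 (isQCoh h1)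
  obtain ⟨φ, hφ, ht⟩ := exists_low P hC b
  refine ⟨φ, ?_, ht⟩
  rw [cls_comp, comp_cls, hφ, hb]

/-- Filtered classes with given classes on the graded pieces. -/
theorem exists_filtered [HasExt.{w} X.Modules] (hUV : U ⊔ V = ⊤) (hUVa : IsAffineOpen (U ⊓ V)) (hC : C.ShortExact)
    (h1 : Coh.IsQCoh C.X₁) (h3 : FlatMod.IsFinLocFree C.X₃) (b₁ : (TF (U ⊓ V)).obj C.X₁ ⟶ C.X₁)
    (b₂ : (TF (U ⊓ V)).obj C.X₃ ⟶ C.X₃) :
    ∃ φ : (TF (U ⊓ V)).obj C.X₂ ⟶ C.X₂,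
      (Ext.mk₀ C.f).comp (cls.{w} hUV φ) (zero_add 1) = (cls hUV b₁).comp (Ext.mk₀ C.f) (add_zero 1) ∧
      (cls.{w} hUV φ).comp (Ext.mk₀ C.g) (add_zero 1) = (Ext.mk₀ C.g).comp (cls hUV b₂) (zero_add 1) ∧
      (Module.Free Γ(X, (U ⊓ V : X.Opens)) Γ(C.X₁, U ⊓ V) → Module.Finite Γ(X, (U ⊓ V : X.Opens)) Γ(C.X₁, U ⊓ V) →
        Module.Free Γ(X, (U ⊓ V : X.Opens)) Γ(C.X₂, U ⊓ V) → Module.Finite Γ(X, (U ⊓ V : X.Opens)) Γ(C.X₂, U ⊓ V) →
        Module.Free Γ(X, (U ⊓ V : X.Opens)) Γ(C.X₃, U ⊓ V) → Module.Finite Γ(X, (U ⊓ V : X.Opens)) Γ(C.X₃, U ⊓ V) →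
        LinearMap.trace Γ(X, (U ⊓ V : X.Opens)) Γ(C.X₂, U ⊓ V) (sec φ le_rfl) =
          LinearMap.trace Γ(X, (U ⊓ V : X.Opens)) Γ(C.X₁, U ⊓ V) (sec b₁ le_rfl) +
            LinearMap.trace Γ(X, (U ⊓ V : X.Opens)) Γ(C.X₃, U ⊓ V) (sec b₂ le_rfl)) := by
  obtain ⟨P⟩ := exists_split hC hUVa h3 h1
  obtain ⟨φ, hφ1, hφ2, ht⟩ := exists_block P b₁ b₂
  refine ⟨φ, ?_, ?_, ht⟩
  · rw [comp_cls, cls_comp, hφ1]
  · rw [comp_cls, cls_comp, hφ2]

/-- Uniqueness of the class on the subobject. -/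
theorem sub_unique [HasExt.{w} X.Modules] (hC : C.ShortExact) (h0 : ∀ f : C.X₁ ⟶ C.X₃, f = 0)
    (x x' : Ext.{w} C.X₁ C.X₁ 1) (h : x.comp (Ext.mk₀ C.f) (add_zero 1) = x'.comp (Ext.mk₀ C.f) (add_zero 1)) :
    x = x' := by
  rw [← sub_eq_zero]
  have h1 : (x - x').comp (Ext.mk₀ C.f) (add_zero 1) = 0 := by
    rw [sub_eq_add_neg, Ext.add_comp, Ext.neg_comp, h, add_neg_cancel]
  obtain ⟨y, hy⟩ := Ext.covariant_sequence_exact₁ C.X₁ hC (x - x') h1 (zero_add 1)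
  obtain ⟨f, rfl⟩ := (Ext.mk₀_bijective _ _).2 y
  rw [← hy, h0 f, Ext.mk₀_zero, Ext.zero_comp]

/-- Uniqueness of the class on the quotient. -/
theorem quot_unique [HasExt.{w} X.Modules] (hC : C.ShortExact) (h0 : ∀ f : C.X₁ ⟶ C.X₃, f = 0)
    (x x' : Ext.{w} C.X₃ C.X₃ 1) (h : (Ext.mk₀ C.g).comp x (zero_add 1) = (Ext.mk₀ C.g).comp x' (zero_add 1)) :
    x = x' := by
  rw [← sub_eq_zero]
  have h1 : (Ext.mk₀ C.g).comp (x - x') (zero_add 1) = 0 := by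
    rw [sub_eq_add_neg, Ext.comp_add, Ext.comp_neg, h, add_neg_cancel]
  obtain ⟨y, hy⟩ := Ext.contravariant_sequence_exact₃ hC C.X₃ (x - x') h1 (add_zero 1)
  obtain ⟨f, rfl⟩ := (Ext.mk₀_bijective _ _).2 y
  rw [← hy, h0 f, Ext.mk₀_zero, Ext.comp_zero]

end Ext

end K774.D1f
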