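import Mathlib.Algebra.Homology.DerivedCategory.Ext.ExtClass
import Mathlib.Algebra.Homology.DerivedCategory.Ext.ExactSequences
import Mathlib.Algebra.Homology.DerivedCategory.Ext.EnoughInjectives
import Mathlib.CategoryTheory.Abelian.Basic

/-!
# Push-out of short exact sequences and `Ext¹`

* `push S u`: the push-out of a short exact sequence along `u : S.X₁ ⟶ B`; its class.
* `exists_hom`: a pair of morphisms on the outer terms of two short exact sequences extends to a morphism iff the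
  classes correspond.
* `exists_push`: if `Ext¹(S.X₂, B) = 0` all classes in `Ext¹(S.X₃, B)` are classes of push-outs of `S`.
* `push_zero_iff`: the class of `push S u` is zero iff `u` extends to `S.X₂`.
* `ext1_eq_zero`: `Ext¹(A, B) = 0` if all morphisms out of `A` lift along epimorphisms with kernel `B`.
-/

set_option autoImplicit false

universe w v u

open CategoryTheory CategoryTheory.Limits Abelian

namespace K774.ExtPush

variable {C : Type u} [Category.{v} C] [Abelian C]

/-- The push-out of a short complex along a morphism out of the first term. -/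
noncomputable abbrev push (S : ShortComplex C) {B : C} (u : S.X₁ ⟶ B) : ShortComplex C :=
  ShortComplex.mk (pushout.inr S.f u : B ⟶ pushout S.f u)
    (pushout.desc S.g (0 : B ⟶ S.X₃) (by rw [S.zero, comp_zero]) : pushout S.f u ⟶ S.X₃)
    (by rw [pushout.inr_desc])

/-- The morphism to the push-out. -/
noncomputable def toPush (S : ShortComplex C) {B : C} (u : S.X₁ ⟶ B) : S ⟶ push S u where
  τ₁ := u
  τ₂ := pushout.inl S.f u
  τ₃ := 𝟙 _
  comm₁₂ := pushout.condition.symm
  comm₂₃ := by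
    change pushout.inl S.f u ≫ pushout.desc _ _ _ = S.g ≫ 𝟙 _
    rw [pushout.inl_desc, Category.comp_id]

/-- Morphisms out of a push-out. -/
noncomputable def descPush {S : ShortComplex C} {B : C} {u : S.X₁ ⟶ B} {T : ShortComplex C} (v : S.X₂ ⟶ T.X₂)
    (β : B ⟶ T.X₁) (α : S.X₃ ⟶ T.X₃) (h1 : S.f ≫ v = u ≫ β ≫ T.f) (h2 : v ≫ T.g = S.g ≫ α) : push S u ⟶ T where
  τ₁ := β
  τ₂ := pushout.desc v (β ≫ T.f) h1
  τ₃ := α
  comm₁₂ := (pushout.inr_desc _ _ _).symm
  comm₂₃ := by
    change pushout.desc v (β ≫ T.f) h1 ≫ T.g = pushout.desc S.g _ _ ≫ α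
    apply pushout.hom_ext
    · rw [pushout.inl_desc_assoc, pushout.inl_desc_assoc, h2]
    · rw [pushout.inr_desc_assoc, pushout.inr_desc_assoc, zero_comp, Category.assoc, T.zero, comp_zero]

theorem shortExact_push {S : ShortComplex C} (hS : S.ShortExact) {B : C} (u : S.X₁ ⟶ B) :
    (push S u).ShortExact := by
  have := hS.mono_f
  have := hS.epi_g
  have hm : Mono (push S u).f := inferInstanceAs (Mono (pushout.inr S.f u))
  have he : Epi (push S u).g := by
    have h : Epi (pushout.inl S.f u ≫ (push S u).g) := by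
      change Epi (pushout.inl S.f u ≫ pushout.desc _ _ _)
      rw [pushout.inl_desc]
      infer_instance
    exact epi_of_epi (pushout.inl S.f u) _
  have hx : (push S u).Exact := by
    apply ShortComplex.exact_of_g_is_cokernel
    have key : ∀ {W : C} (k : pushout S.f u ⟶ W) (_ : pushout.inr S.f u ≫ k = 0),
        ∃ l : S.X₃ ⟶ W, (push S u).g ≫ l = k := by
      intro W k hk
      have h0 : S.f ≫ (pushout.inl S.f u ≫ k) = 0 := by
        rw [pushout.condition_assoc, hk, comp_zero]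
      refine ⟨hS.exact.desc _ h0, ?_⟩
      apply pushout.hom_ext
      · change pushout.inl S.f u ≫ pushout.desc _ _ _ ≫ _ = _
        rw [pushout.inl_desc_assoc, hS.exact.g_desc]
      · change pushout.inr S.f u ≫ pushout.desc _ _ _ ≫ _ = _
        rw [pushout.inr_desc_assoc, zero_comp, hk]
    exact CokernelCofork.IsColimit.ofπ _ _ (fun k hk => (key k hk).choose)
      (fun k hk => (key k hk).choose_spec)
      (fun k hk m hm => by
        rw [← cancel_epi (push S u).g]
        exact hm.trans (key k hk).choose_spec.symm)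
  exact { exact := hx }

variable [HasExt.{w} C]

theorem extClass_push {S : ShortComplex C} (hS : S.ShortExact) {B : C} (u : S.X₁ ⟶ B) :
    (shortExact_push hS u).extClass = hS.extClass.comp (Ext.mk₀ u) (add_zero 1) := by
  have h := ShortComplex.ShortExact.extClass_naturality hS (shortExact_push hS u) (toPush S u)
  refine Eq.trans ?_ h.symm
  exact (Ext.mk₀_id_comp _).symm

/-- A pair of morphisms on the outer terms of two short exact sequences extends to a morphism if the classes
correspond. -/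
theorem exists_hom {S T : ShortComplex C} (hS : S.ShortExact) (hT : T.ShortExact) (β : S.X₁ ⟶ T.X₁) (α : S.X₃ ⟶ T.X₃)
    (h : hS.extClass.comp (Ext.mk₀ β) (add_zero 1) = (Ext.mk₀ α).comp hT.extClass (zero_add 1)) :
    ∃ m : S ⟶ T, m.τ₁ = β ∧ m.τ₃ = α := by
  have := hS.epi_g
  have h1 : hS.extClass.comp (Ext.mk₀ (β ≫ T.f)) (add_zero 1) = 0 := by
    rw [← Ext.mk₀_comp_mk₀, ← Ext.comp_assoc (a₁₂ := 1) _ _ _ (by lia) (by lia) (by lia), h,
      Ext.comp_assoc (a₂₃ := 1) _ _ _ (by lia) (by lia) (by lia), ShortComplex.ShortExact.extClass_comp,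
      Ext.comp_zero]
  obtain ⟨u', hu'⟩ := Ext.contravariant_sequence_exact₁ hS T.X₂ (Ext.mk₀ (β ≫ T.f)) (add_zero 1) h1
  obtain ⟨u, rfl⟩ := (Ext.mk₀_bijective _ _).2 u'
  rw [Ext.mk₀_comp_mk₀] at hu'
  have hu : S.f ≫ u = β ≫ T.f := (Ext.mk₀_bijective _ _).1 hu'
  have h2 : S.f ≫ (u ≫ T.g) = 0 := by
    rw [← Category.assoc, hu, Category.assoc, T.zero, comp_zero]
  have hw : S.g ≫ hS.exact.desc _ h2 = u ≫ T.g := hS.exact.g_desc _ _
  let m0 : S ⟶ T := { τ₁ := β, τ₂ := u, τ₃ := hS.exact.desc _ h2, comm₁₂ := hu.symm, comm₂₃ := hw.symm }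
  have h3 := ShortComplex.ShortExact.extClass_naturality hS hT m0
  have h4 : (Ext.mk₀ (α - hS.exact.desc _ h2)).comp hT.extClass (zero_add 1) = 0 := by
    rw [sub_eq_add_neg, Ext.mk₀_add, Ext.mk₀_neg, Ext.add_comp, Ext.neg_comp, ← h, ← sub_eq_add_neg, sub_eq_zero]
    exact h3
  obtain ⟨v', hv'⟩ := Ext.covariant_sequence_exact₃ S.X₃ hT (Ext.mk₀ (α - hS.exact.desc _ h2)) (zero_add 1) h4
  obtain ⟨v, rfl⟩ := (Ext.mk₀_bijective _ _).2 v'
  rw [Ext.mk₀_comp_mk₀] at hv'
  have hv : v ≫ T.g = α - hS.exact.desc _ h2 := (Ext.mk₀_bijective _ _).1 hv'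
  refine ⟨{ τ₁ := β, τ₂ := u + S.g ≫ v, τ₃ := α, comm₁₂ := ?_, comm₂₃ := ?_ }, rfl, rfl⟩
  · rw [Preadditive.comp_add, hu, ← Category.assoc S.f, S.zero, zero_comp, add_zero]
  · rw [Preadditive.add_comp, Category.assoc, hv, Preadditive.comp_sub, hw]
    abel

/-- Two short exact sequences with the same outer terms and the same class are isomorphic. -/
theorem exists_iso {S T : ShortComplex C} (hS : S.ShortExact) (hT : T.ShortExact) (β : S.X₁ ≅ T.X₁)
    (α : S.X₃ ≅ T.X₃)
    (h : hS.extClass.comp (Ext.mk₀ β.hom) (add_zero 1) = (Ext.mk₀ α.hom).comp hT.extClass (zero_add 1)) :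
    ∃ m : S ≅ T, m.hom.τ₁ = β.hom ∧ m.hom.τ₃ = α.hom := by
  obtain ⟨m, h1, h3⟩ := exists_hom hS hT β.hom α.hom h
  have i1 : IsIso m.τ₁ := by rw [h1]; infer_instance
  have i3 : IsIso m.τ₃ := by rw [h3]; infer_instance
  have i2 : IsIso m.τ₂ := ShortComplex.isIso₂_of_shortExact_of_isIso₁₃ m hS hT
  exact ⟨ShortComplex.isoMk (asIso m.τ₁) (asIso m.τ₂) (asIso m.τ₃) m.comm₁₂ m.comm₂₃, h1, h3⟩

/-- The class of a push-out is zero iff the morphism extends. -/
theorem comp_eq_zero_iff {S : ShortComplex C} (hS : S.ShortExact) {B : C} (u : S.X₁ ⟶ B) :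
    hS.extClass.comp (Ext.mk₀ u) (add_zero 1) = 0 ↔ ∃ v : S.X₂ ⟶ B, S.f ≫ v = u := by
  constructor
  · intro h
    obtain ⟨v', hv'⟩ := Ext.contravariant_sequence_exact₁ hS B (Ext.mk₀ u) (add_zero 1) h
    obtain ⟨v, rfl⟩ := (Ext.mk₀_bijective _ _).2 v'
    rw [Ext.mk₀_comp_mk₀] at hv'
    exact ⟨v, (Ext.mk₀_bijective _ _).1 hv'⟩
  · rintro ⟨v, rfl⟩
    rw [← Ext.mk₀_comp_mk₀]
    exact ShortComplex.ShortExact.extClass_comp_assoc hS _

/-- The class is zero iff the sequence splits. -/
theorem extClass_eq_zero_iff {S : ShortComplex C} (hS : S.ShortExact) :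
    (hS.extClass : Ext.{w} _ _ 1) = 0 ↔ ∃ v : S.X₂ ⟶ S.X₁, S.f ≫ v = 𝟙 _ := by
  rw [← comp_eq_zero_iff hS (𝟙 _), Ext.comp_mk₀_id]

/-- If `Ext¹(S.X₂, B) = 0` all classes in `Ext¹(S.X₃, B)` come from `Hom(S.X₁, B)`. -/
theorem exists_push {S : ShortComplex C} (hS : S.ShortExact) {B : C} (h : ∀ x : Ext.{w} S.X₂ B 1, x = 0)
    (x : Ext.{w} S.X₃ B 1) : ∃ u : S.X₁ ⟶ B, hS.extClass.comp (Ext.mk₀ u) (add_zero 1) = x := by
  obtain ⟨u', hu'⟩ := Ext.contravariant_sequence_exact₃ hS B x (h _) (add_zero 1)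
  obtain ⟨u, rfl⟩ := (Ext.mk₀_bijective _ _).2 u'
  exact ⟨u, hu'⟩

/-- `Ext¹(A, B) = 0` if all morphisms out of `A` lift along epimorphisms with kernel `B`. -/
theorem ext1_eq_zero [EnoughInjectives C] {A B : C}
    (h : ∀ (S : ShortComplex C) (_ : S.ShortExact) (_ : S.X₁ = B) (t : A ⟶ S.X₃), ∃ t' : A ⟶ S.X₂, t' ≫ S.g = t)
    (x : Ext.{w} A B 1) : x = 0 := by
  let S : ShortComplex C := ShortComplex.mk (Injective.ι B) (cokernel.π (Injective.ι B)) (by simp)
  have hS : S.ShortExact :=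
    { exact := ShortComplex.exact_of_g_is_cokernel _ (cokernelIsCokernel (Injective.ι B)) }
  have hx : x.comp (Ext.mk₀ S.f) (add_zero 1) = 0 := Ext.eq_zero_of_injective _
  obtain ⟨t', ht'⟩ := Ext.covariant_sequence_exact₁ A hS x hx (zero_add 1)
  obtain ⟨t, rfl⟩ := (Ext.mk₀_bijective _ _).2 t'
  obtain ⟨s, rfl⟩ := h S hS rfl t
  rw [← ht', ← Ext.mk₀_comp_mk₀, Ext.comp_assoc (a₂₃ := 1) _ _ _ (by lia) (by lia) (by lia),
    ShortComplex.ShortExact.comp_extClass, Ext.comp_zero]

/-- All elements of `Ext¹` are classes of short exact sequences. -/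
theorem exists_shortExact [EnoughInjectives C] {A B : C} (x : Ext.{w} A B 1) :
    ∃ (G : C) (f : B ⟶ G) (g : G ⟶ A) (w : f ≫ g = 0) (hS : (ShortComplex.mk f g w).ShortExact),
      hS.extClass = x := by
  let S : ShortComplex C := ShortComplex.mk (Injective.ι B) (cokernel.π (Injective.ι B)) (by simp)
  have hS : S.ShortExact :=
    { exact := ShortComplex.exact_of_g_is_cokernel _ (cokernelIsCokernel (Injective.ι B)) }
  have hx : x.comp (Ext.mk₀ S.f) (add_zero 1) = 0 := Ext.eq_zero_of_injective _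
  obtain ⟨t', ht'⟩ := Ext.covariant_sequence_exact₁ A hS x hx (zero_add 1)
  obtain ⟨t, rfl⟩ := (Ext.mk₀_bijective _ _).2 t'
  -- pull back along `t : A ⟶ S.X₃`
  have := hS.mono_f
  have := hS.epi_g
  have w : pullback.lift S.f (0 : B ⟶ A) (by rw [S.zero, zero_comp]) ≫ pullback.snd S.g t = 0 := pullback.lift_snd _ _ _
  let T : ShortComplex C := ShortComplex.mk (pullback.lift S.f (0 : B ⟶ A) (by rw [S.zero, zero_comp]))
    (pullback.snd S.g t) w
  have hm : Mono T.f := by
    have : Mono (T.f ≫ pullback.fst S.g t) := by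
      change Mono (pullback.lift _ _ _ ≫ pullback.fst S.g t)
      rw [pullback.lift_fst]
      infer_instance
    exact mono_of_mono _ (pullback.fst S.g t)
  have he : Epi T.g := inferInstanceAs (Epi (pullback.snd S.g t))
  have hT : T.ShortExact := by
    have hx : T.Exact := by
      apply ShortComplex.exact_of_f_is_kernel
      have key : ∀ {W : C} (k : W ⟶ pullback S.g t) (_ : k ≫ pullback.snd S.g t = 0), ∃ l : W ⟶ B, l ≫ T.f = k := by
        intro W k hk
        have h0 : (k ≫ pullback.fst S.g t) ≫ S.g = 0 := by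
          rw [Category.assoc, pullback.condition, ← Category.assoc, hk, zero_comp]
        refine ⟨hS.exact.lift _ h0, ?_⟩
        apply pullback.hom_ext
        · change (_ ≫ pullback.lift _ _ _) ≫ pullback.fst S.g t = _
          rw [Category.assoc, pullback.lift_fst]
          exact hS.exact.lift_f _ _
        · change (_ ≫ pullback.lift _ _ _) ≫ pullback.snd S.g t = _
          rw [Category.assoc, pullback.lift_snd, comp_zero, hk]
      exact KernelFork.IsLimit.ofι _ _ (fun k hk => (key k hk).choose)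
        (fun k hk => (key k hk).choose_spec)
        (fun k hk m hm => by
          rw [← cancel_mono T.f]
          exact hm.trans (key k hk).choose_spec.symm)
    exact { exact := hx }
  refine ⟨_, _, _, w, hT, ?_⟩
  let m : T ⟶ S :=
    { τ₁ := 𝟙 B
      τ₂ := pullback.fst S.g t
      τ₃ := t
      comm₁₂ := by
        change 𝟙 B ≫ S.f = pullback.lift _ _ _ ≫ pullback.fst S.g t
        rw [pullback.lift_fst, Category.id_comp]
      comm₂₃ := pullback.condition }
  have h := ShortComplex.ShortExact.extClass_naturality hT hS m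
  refine Eq.trans ?_ (h.trans ht')
  exact (Ext.comp_mk₀_id _).symm

end K774.ExtPush
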