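import Groth.Agent.BunMod.K774.LocHom
import Groth.Agent.BunMod.K774.ExtPush
import Groth.Agent.Dcoh.DerSch

/-!
# Čech description of extensions of modules

`X` a scheme, `U`, `V` opens with `U ⊔ V = ⊤`, `A`, `B` modules.  A morphism `φ : A|_{U ⊓ V} ⟶ B|_{U ⊓ V}`, i.e.
`φ : TF (U ⊓ V) A ⟶ B`, defines the extension `Sx φ : 0 ⟶ B ⟶ _ ⟶ A ⟶ 0`, the push-out of the Mayer–Vietoris sequence
`0 ⟶ TF (U ⊓ V) A ⟶ TF U A ⊞ TF V A ⟶ A ⟶ 0`.

* `cls φ`: its class in `Ext¹(A, B)`, additive and natural.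
* `exists_cls`: for `U`, `V` affine, `A` with projective sections over `U` and `V` and `B` quasi-coherent all classes
  are of this form.
* `cls_eq_zero_iff`: the class is zero iff `φ` is a difference of morphisms over `U` and `V`.
* `Loc S φ`: local splittings `s`, `t` over `U` and `V` with difference `φ`; they characterize `S ≅ Sx φ`.
-/

set_option autoImplicit false

universe w u

open CategoryTheory CategoryTheory.Limits AlgebraicGeometry Opposite TopologicalSpace Abelian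

namespace K774.CechExt

open Groth.Agent.PerfC.ExtZero Groth.Agent.PerfA.TFMV K774.ExtPush K774.LocHom

variable {X : Scheme.{u}} {U V : X.Opens}

theorem isIso_inc (hUV : U ⊔ V = ⊤) (A : X.Modules) : IsIso (inc (U ⊔ V) A) := by
  rw [Scheme.Modules.Hom.isIso_iff_isIso_app]
  intro W
  rw [ConcreteCategory.isIso_iff_bijective]
  exact inc_app_bijective_of_le (U ⊔ V) A (by rw [hUV]; exact le_top)

theorem mvf_eq (U V : X.Opens) (A : X.Modules) :
    mvf U V A = mapLE inf_le_left A ≫ biprod.inl - mapLE inf_le_right A ≫ biprod.inr := by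
  rw [mvf, biprod.lift_eq, Preadditive.neg_comp, sub_eq_add_neg]

theorem mvf_desc (U V : X.Opens) (A : X.Modules) : mvf U V A ≫ biprod.desc (inc U A) (inc V A) = 0 := by
  rw [mvf, biprod.lift_desc, mapLE_inc, Preadditive.neg_comp, mapLE_inc, add_neg_cancel]

/-- The Mayer–Vietoris sequence `0 ⟶ A|_{U ⊓ V} ⟶ A|_U ⊞ A|_V ⟶ A ⟶ 0`. -/
noncomputable abbrev mc (U V : X.Opens) (A : X.Modules) : ShortComplex X.Modules :=
  ShortComplex.mk (mvf U V A) (biprod.desc (inc U A) (inc V A)) (mvf_desc U V A)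

theorem shortExact_mc (hUV : U ⊔ V = ⊤) (A : X.Modules) : (mc U V A).ShortExact := by
  have := isIso_inc hUV A
  have h : mvg U V A ≫ inc (U ⊔ V) A = biprod.desc (inc U A) (inc V A) := by
    rw [mvg]
    apply biprod.hom_ext' <;> simp
  refine ShortComplex.shortExact_of_iso (ShortComplex.isoMk (S₁ := mv U V A) (S₂ := mc U V A) (Iso.refl _)
    (Iso.refl _) (@asIso _ _ _ _ (inc (U ⊔ V) A) (isIso_inc hUV A)) ?_ ?_) (shortExact_mv U V A)
  · rw [Iso.refl_hom, Iso.refl_hom, Category.id_comp, Category.comp_id]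
  · rw [Iso.refl_hom, Category.id_comp]
    exact h.symm

/-- Functoriality of the Mayer–Vietoris sequence. -/
noncomputable def mcMap (U V : X.Opens) {A A' : X.Modules} (α : A ⟶ A') : mc U V A ⟶ mc U V A' where
  τ₁ := (TF (U ⊓ V)).map α
  τ₂ := biprod.map ((TF U).map α) ((TF V).map α)
  τ₃ := α
  comm₁₂ := by
    change (TF (U ⊓ V)).map α ≫ mvf U V A' = mvf U V A ≫ _
    rw [mvf, mvf]
    apply biprod.hom_ext
    · simp only [Category.assoc, biprod.lift_fst, biprod.map_fst, biprod.lift_fst_assoc]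
      exact mapLE_naturality _ _
    · simp only [Category.assoc, biprod.lift_snd, biprod.map_snd, biprod.lift_snd_assoc, Preadditive.comp_neg,
        Preadditive.neg_comp]
      exact congrArg Neg.neg (mapLE_naturality _ _)
  comm₂₃ := by
    apply biprod.hom_ext'
    · simp only [biprod.inl_map_assoc, biprod.inl_desc, biprod.inl_desc_assoc]
      exact TF_map_inc U α
    · simp only [biprod.inr_map_assoc, biprod.inr_desc, biprod.inr_desc_assoc]
      exact TF_map_inc V α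

/-- The extension defined by a morphism over `U ⊓ V`. -/
noncomputable abbrev Sx (U V : X.Opens) {A B : X.Modules} (φ : (TF (U ⊓ V)).obj A ⟶ B) : ShortComplex X.Modules :=
  push (mc U V A) φ

theorem shortExact_Sx (hUV : U ⊔ V = ⊤) {A B : X.Modules} (φ : (TF (U ⊓ V)).obj A ⟶ B) : (Sx U V φ).ShortExact :=
  shortExact_push (shortExact_mc hUV A) φ

/-- Local splittings over `U` and `V` with difference `φ`. -/
structure Loc (U V : X.Opens) (S : ShortComplex X.Modules) (φ : (TF (U ⊓ V)).obj S.X₃ ⟶ S.X₁) where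
  /-- the splitting over `U` -/
  s : (TF U).obj S.X₃ ⟶ S.X₂
  /-- the splitting over `V` -/
  t : (TF V).obj S.X₃ ⟶ S.X₂
  hs : s ≫ S.g = inc U S.X₃
  ht : t ≫ S.g = inc V S.X₃
  sub : mapLE inf_le_left S.X₃ ≫ s - mapLE inf_le_right S.X₃ ≫ t = φ ≫ S.f

/-- Local splittings as a morphism of short complexes. -/
noncomputable def Loc.hom {S : ShortComplex X.Modules} {φ : (TF (U ⊓ V)).obj S.X₃ ⟶ S.X₁} (L : Loc U V S φ) :
    mc U V S.X₃ ⟶ S where
  τ₁ := φ
  τ₂ := biprod.desc L.s L.t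
  τ₃ := 𝟙 _
  comm₁₂ := by
    change φ ≫ S.f = mvf U V S.X₃ ≫ _
    rw [mvf, biprod.lift_desc, ← L.sub, Preadditive.neg_comp, sub_eq_add_neg]
  comm₂₃ := by
    change biprod.desc L.s L.t ≫ S.g = biprod.desc _ _ ≫ 𝟙 _
    rw [Category.comp_id]
    apply biprod.hom_ext'
    · rw [biprod.inl_desc_assoc, biprod.inl_desc, L.hs]
    · rw [biprod.inr_desc_assoc, biprod.inr_desc, L.ht]

/-- The local splittings of `Sx φ`. -/
noncomputable def locSx (U V : X.Opens) {A B : X.Modules} (φ : (TF (U ⊓ V)).obj A ⟶ B) : Loc U V (Sx U V φ) φ where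
  s := biprod.inl ≫ pushout.inl (mvf U V A) φ
  t := biprod.inr ≫ pushout.inl (mvf U V A) φ
  hs := by
    change (biprod.inl ≫ pushout.inl (mvf U V A) φ) ≫ pushout.desc _ _ _ = _
    rw [Category.assoc, pushout.inl_desc, biprod.inl_desc]
  ht := by
    change (biprod.inr ≫ pushout.inl (mvf U V A) φ) ≫ pushout.desc _ _ _ = _
    rw [Category.assoc, pushout.inl_desc, biprod.inr_desc]
  sub := by
    change mapLE inf_le_left A ≫ biprod.inl ≫ pushout.inl (mvf U V A) φ -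
      mapLE inf_le_right A ≫ biprod.inr ≫ pushout.inl (mvf U V A) φ = φ ≫ pushout.inr (mvf U V A) φ
    have h := congrArg (fun z => z ≫ pushout.inl (mvf U V A) φ) (mvf_eq U V A)
    simp only [Preadditive.sub_comp, Category.assoc] at h
    rw [← pushout.condition]
    exact h.symm

/-- The comparison `Sx φ ⟶ S` defined by local splittings with difference `φ`. -/
noncomputable def Loc.toS {S : ShortComplex X.Modules} {φ : (TF (U ⊓ V)).obj S.X₃ ⟶ S.X₁} (L : Loc U V S φ) :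
    Sx U V φ ⟶ S :=
  descPush L.hom.τ₂ (𝟙 _) (𝟙 _) (L.hom.comm₁₂.symm.trans (by rw [Category.id_comp]; rfl)) L.hom.comm₂₃

/-- A short exact sequence with local splittings with difference `φ` is isomorphic to `Sx φ`. -/
theorem Loc.exists_iso (hUV : U ⊔ V = ⊤) {S : ShortComplex X.Modules} (hS : S.ShortExact)
    {φ : (TF (U ⊓ V)).obj S.X₃ ⟶ S.X₁} (L : Loc U V S φ) :
    ∃ e : Sx U V φ ≅ S, e.hom.τ₁ = 𝟙 _ ∧ e.hom.τ₃ = 𝟙 _ := by
  have i1 : IsIso L.toS.τ₁ := inferInstanceAs (IsIso (𝟙 _))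
  have i3 : IsIso L.toS.τ₃ := inferInstanceAs (IsIso (𝟙 _))
  have i2 : IsIso L.toS.τ₂ := ShortComplex.isIso₂_of_shortExact_of_isIso₁₃ L.toS (shortExact_Sx hUV φ) hS
  exact ⟨ShortComplex.isoMk (asIso L.toS.τ₁) (asIso L.toS.τ₂) (asIso L.toS.τ₃) L.toS.comm₁₂ L.toS.comm₂₃, rfl, rfl⟩

/-- Local splittings exist if `U`, `V` are affine, `S.X₃` has projective sections over `U`, `V` and `S.X₁` is
quasi-coherent. -/
theorem exists_loc (hU : IsAffineOpen U) (hV : IsAffineOpen V) {S : ShortComplex X.Modules} (hS : S.ShortExact)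
    (h3 : Coh.IsQCoh S.X₃) (h1 : Coh.IsQCoh S.X₁) (hPU : Module.Projective Γ(X, U) Γ(S.X₃, U))
    (hPV : Module.Projective Γ(X, V) Γ(S.X₃, V)) : ∃ φ, Nonempty (Loc U V S φ) := by
  obtain ⟨s, hs⟩ := exists_lift h3 hU hPU hS h1 (inc U S.X₃)
  obtain ⟨t, ht⟩ := exists_lift h3 hV hPV hS h1 (inc V S.X₃)
  have h0 : (mapLE inf_le_left S.X₃ ≫ s - mapLE inf_le_right S.X₃ ≫ t) ≫ S.g = 0 := by
    rw [Preadditive.sub_comp, Category.assoc, Category.assoc, hs, ht, mapLE_inc, mapLE_inc, sub_self]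
  have := hS.mono_f
  exact ⟨hS.exact.lift _ h0, ⟨⟨s, t, hs, ht, (hS.exact.lift_f _ h0).symm⟩⟩⟩

variable [HasExt.{w} X.Modules]

/-- The class of the extension defined by `φ`. -/
noncomputable def cls (hUV : U ⊔ V = ⊤) {A B : X.Modules} (φ : (TF (U ⊓ V)).obj A ⟶ B) : Ext.{w} A B 1 :=
  (shortExact_mc hUV A).extClass.comp (Ext.mk₀ φ) (add_zero 1)

variable (hUV : U ⊔ V = ⊤) {A B : X.Modules}
include hUV

theorem extClass_Sx (φ : (TF (U ⊓ V)).obj A ⟶ B) : (shortExact_Sx hUV φ).extClass = cls.{w} hUV φ :=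
  extClass_push (shortExact_mc hUV A) φ

theorem cls_add (φ ψ : (TF (U ⊓ V)).obj A ⟶ B) : cls.{w} hUV (φ + ψ) = cls hUV φ + cls hUV ψ := by
  rw [cls, Ext.mk₀_add, Ext.comp_add]
  rfl

theorem cls_zero : cls.{w} hUV (0 : (TF (U ⊓ V)).obj A ⟶ B) = 0 := by
  rw [cls, Ext.mk₀_zero, Ext.comp_zero]

theorem cls_neg (φ : (TF (U ⊓ V)).obj A ⟶ B) : cls.{w} hUV (-φ) = - cls hUV φ := by
  rw [cls, Ext.mk₀_neg, Ext.comp_neg]
  rfl

theorem cls_sub (φ ψ : (TF (U ⊓ V)).obj A ⟶ B) : cls.{w} hUV (φ - ψ) = cls hUV φ - cls hUV ψ := by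
  rw [sub_eq_add_neg, cls_add, cls_neg, ← sub_eq_add_neg]

theorem cls_comp (φ : (TF (U ⊓ V)).obj A ⟶ B) {B' : X.Modules} (β : B ⟶ B') :
    (cls.{w} hUV φ).comp (Ext.mk₀ β) (add_zero 1) = cls hUV (φ ≫ β) := by
  rw [cls, cls, ← Ext.mk₀_comp_mk₀]
  exact Ext.comp_assoc _ _ _ (by lia) (by lia) (by lia)

theorem comp_cls {A' : X.Modules} (α : A' ⟶ A) (φ : (TF (U ⊓ V)).obj A ⟶ B) :
    (Ext.mk₀ α).comp (cls.{w} hUV φ) (zero_add 1) = cls hUV ((TF (U ⊓ V)).map α ≫ φ) := by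
  have h := ShortComplex.ShortExact.extClass_naturality (shortExact_mc hUV A') (shortExact_mc hUV A) (mcMap U V α)
  have h' : (shortExact_mc hUV A').extClass.comp (Ext.mk₀ ((TF (U ⊓ V)).map α)) (add_zero 1) =
      (Ext.mk₀ α).comp (shortExact_mc hUV A).extClass (zero_add 1) := h
  rw [cls, cls, ← Ext.mk₀_comp_mk₀, ← Ext.comp_assoc (a₁₂ := 1) _ _ _ (by lia) (by lia) (by lia),
    ← Ext.comp_assoc (a₁₂ := 1) _ _ _ (by lia) (by lia) (by lia), h']

/-- The class of an extension with local splittings. -/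
theorem extClass_eq_cls {S : ShortComplex X.Modules} (hS : S.ShortExact) {φ : (TF (U ⊓ V)).obj S.X₃ ⟶ S.X₁}
    (L : Loc U V S φ) : hS.extClass = cls.{w} hUV φ := by
  have h := ShortComplex.ShortExact.extClass_naturality (shortExact_mc hUV S.X₃) hS L.hom
  refine Eq.trans ?_ h.symm
  exact (Ext.mk₀_id_comp _).symm

/-- The class is zero iff `φ` is a difference of morphisms over `U` and `V`. -/
theorem cls_eq_zero_iff (φ : (TF (U ⊓ V)).obj A ⟶ B) :
    cls.{w} hUV φ = 0 ↔ ∃ (a : (TF U).obj A ⟶ B) (b : (TF V).obj A ⟶ B),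
      mapLE inf_le_left A ≫ a - mapLE inf_le_right A ≫ b = φ := by
  rw [cls, comp_eq_zero_iff (shortExact_mc hUV A) φ]
  constructor
  · rintro ⟨v, hv⟩
    refine ⟨biprod.inl ≫ v, biprod.inr ≫ v, ?_⟩
    have h := congrArg (fun z => z ≫ v) (mvf_eq U V A)
    simp only [Preadditive.sub_comp, Category.assoc] at h
    rw [← hv]
    exact h.symm
  · rintro ⟨a, b, rfl⟩
    refine ⟨biprod.desc a b, ?_⟩
    change mvf U V A ≫ _ = _
    rw [mvf, biprod.lift_desc, Preadditive.neg_comp, sub_eq_add_neg]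

theorem exists_cls (hU : IsAffineOpen U) (hV : IsAffineOpen V) (hA : Coh.IsQCoh A) (hB : Coh.IsQCoh B)
    (hPU : Module.Projective Γ(X, U) Γ(A, U)) (hPV : Module.Projective Γ(X, V) Γ(A, V)) (x : Ext.{w} A B 1) :
    ∃ φ : (TF (U ⊓ V)).obj A ⟶ B, cls hUV φ = x := by
  have := Groth.Agent.Dcoh.DerSch.enoughInjectives X
  refine exists_push (shortExact_mc hUV A) (fun y => ?_) x
  refine ext1_eq_zero (fun S hS h1 t => ?_) y
  have hB' : Coh.IsQCoh S.X₁ := by rw [h1]; exact hB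
  obtain ⟨a, ha⟩ := exists_lift hA hU hPU hS hB' (biprod.inl ≫ t)
  obtain ⟨b, hb⟩ := exists_lift hA hV hPV hS hB' (biprod.inr ≫ t)
  refine ⟨biprod.desc a b, ?_⟩
  apply biprod.hom_ext'
  · rw [biprod.inl_desc_assoc, ha]
  · rw [biprod.inr_desc_assoc, hb]

end K774.CechExt
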