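import Groth.Agent.PerfA.TFMV
import Groth.Agent.PerfA.QCohExt
import Groth.Agent.CohqB.FinHom
import Groth.Agent.FormalB.ModPowAff2
import Mathlib.Algebra.Module.Projective

/-!
# Morphisms over an open subset

For an open `W` of a scheme `X` and modules `A`, `B` a morphism `A|_W ⟶ B|_W` is the same as a morphism
`TF W A ⟶ B`, where `TF W A ≅ j_!(A|_W)` is the submodule of sections of `A` vanishing near the points outside `W`.
We use this description throughout.

* `ofRes j φ`: the morphism `TF j.opensRange A ⟶ B` of `φ : A.restrict j ⟶ B.restrict j`.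
* `exists_hom`: for `A` quasi-coherent and `W` affine every linear map `Γ(A, W) → Γ(B, W)` comes from a morphism over `W`.
* `hom_ext`: uniqueness.
* `exists_lift`: morphisms over an affine `W` out of `A` with `Γ(A, W)` projective lift along epimorphisms with
  quasi-coherent kernel.
-/

set_option autoImplicit false

universe u

open CategoryTheory CategoryTheory.Limits AlgebraicGeometry Opposite TopologicalSpace

namespace K774.LocHom

open Groth.Agent.PerfC.ExtZero Groth.Agent.PerfA.TFMV

variable {X Y : Scheme.{u}}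

/-- The morphism over the image of an open immersion given by a morphism of restrictions. -/
noncomputable def ofRes (j : Y ⟶ X) [IsOpenImmersion j] {A B : X.Modules} (φ : A.restrict j ⟶ B.restrict j) :
    (TF j.opensRange).obj A ⟶ B :=
  tEta j A ≫ (jShriek j).map φ ≫ counitApp j B

theorem restrict_ofRes (j : Y ⟶ X) [IsOpenImmersion j] {A B : X.Modules} (φ : A.restrict j ⟶ B.restrict j) :
    (Scheme.Modules.restrictFunctor j).map (ofRes j φ) =
      (Scheme.Modules.restrictFunctor j).map (inc j.opensRange A) ≫ φ := by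
  have h1 : (Scheme.Modules.restrictFunctor j).map (inc j.opensRange A) =
      (Scheme.Modules.restrictFunctor j).map (tEta j A) ≫ unitInvApp j (A.restrict j) := by
    rw [← restrict_counitApp, ← Functor.map_comp, tEta_counitApp]
    rfl
  rw [ofRes, Functor.map_comp, Functor.map_comp, restrict_counitApp, unitInvApp_naturality, h1, Category.assoc]

/-- `res` of sections. -/
noncomputable abbrev rs (M : X.Modules) {V W : X.Opens} (h : V ≤ W) (s : Γ(M, W)) : Γ(M, V) :=
  M.presheaf.map (homOfLE h).op s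

theorem rs_rs (M : X.Modules) {V W T : X.Opens} (h : W ≤ V) (h' : T ≤ W) (s : Γ(M, V)) :
    rs M h' (rs M h s) = rs M (h'.trans h) s :=
  Groth.Agent.CohqB.FinHom.map_map M h h' s

theorem rs_self (M : X.Modules) {V : X.Opens} (h : V ≤ V) (s : Γ(M, V)) : rs M h s = s :=
  Groth.Agent.CohqB.FinHom.map_self M h s

theorem rs_app {M N : X.Modules} (φ : M ⟶ N) {V W : X.Opens} (h : W ≤ V) (s : Γ(M, V)) :
    rs N h (φ.app V s) = φ.app W (rs M h s) :=
  Groth.Agent.PerfC.ExtZero.app_map φ h s

theorem rs_injective_of_eq (M : X.Modules) {V W : X.Opens} (h : V ≤ W) (h' : W ≤ V) :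
    Function.Injective (rs M h) := by
  intro s t hst
  have := congrArg (rs M h') hst
  rwa [rs_rs, rs_rs, rs_self, rs_self] at this

theorem eq_opensRange (W : X.Opens) : W.ι.opensRange = W := Scheme.Opens.opensRange_ι W

/-- For `A` quasi-coherent and `W` affine every linear map `Γ(A, W) → Γ(B, W)` comes from a morphism over `W`. -/
theorem exists_hom {A : X.Modules} (hA : Coh.IsQCoh A) (B : X.Modules) {W : X.Opens} (hW : IsAffineOpen W)
    (l : Γ(A, W) →ₗ[Γ(X, W)] Γ(B, W)) :
    ∃ φ : (TF W).obj A ⟶ B, ∀ s : Γ((TF W).obj A, W), φ.app W s = l ((inc W A).app W s) := by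
  obtain ⟨φ0, h0⟩ := Groth.Agent.CohqB.FinHom.exists_hom_restrict A B hW l
  suffices H : ∀ (W' : X.Opens) (_ : W' = W.ι.opensRange), ∃ φ : (TF W').obj A ⟶ B,
      ∀ s : Γ((TF W').obj A, W), φ.app W s = l ((inc W' A).app W s) from
    H W (eq_opensRange W).symm
  rintro _ rfl
  refine ⟨ofRes W.ι φ0, fun s => ?_⟩
  have hle : W.ι ''ᵁ ⊤ ≤ W := W.ι_image_le ⊤
  have hge : W ≤ W.ι ''ᵁ ⊤ := by
    rw [Scheme.Opens.ι_image_top]
  apply rs_injective_of_eq B hle hge
  rw [rs_app]
  have h1 := congrArg (fun z => z.app ⊤) (restrict_ofRes W.ι φ0)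
  have h2 : (ofRes W.ι φ0).app (W.ι ''ᵁ ⊤) (rs _ hle s) =
      φ0.app ⊤ ((inc W.ι.opensRange A).app (W.ι ''ᵁ ⊤) (rs _ hle s)) :=
    congr($h1 (show Γ(((TF W.ι.opensRange).obj A).restrict W.ι, ⊤) from
      (rs ((TF W.ι.opensRange).obj A) hle s)))
  rw [h2, ← rs_app]
  exact h0 _

/-- Morphisms over an affine `W` out of a quasi-coherent module are determined by their sections over `W`. -/
theorem hom_ext {A : X.Modules} (hA : Coh.IsQCoh A) {B : X.Modules} {W : X.Opens} (hW : IsAffineOpen W)
    (φ ψ : (TF W).obj A ⟶ B) (h : ∀ s : Γ((TF W).obj A, W), φ.app W s = ψ.app W s) : φ = ψ := by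
  suffices H : ∀ (W' : X.Opens) (_ : W' = W.ι.opensRange) (φ ψ : (TF W').obj A ⟶ B),
      (∀ s : Γ((TF W').obj A, W), φ.app W s = ψ.app W s) → φ = ψ from
    H W (eq_opensRange W).symm φ ψ h
  rintro _ rfl φ ψ h
  apply hom_ext_of_suppIn W.ι (suppIn_T W.ι.opensRange A)
  have hq : Coh.IsQCoh (A.restrict W.ι) := by
    have : A.IsQuasicoherent := hA
    infer_instance
  have hi : IsIso ((Scheme.Modules.restrictFunctor W.ι).map (inc W.ι.opensRange A)) :=
    isIso_restrict_incl W.ι A
  refine (cancel_epi (inv ((Scheme.Modules.restrictFunctor W.ι).map (inc W.ι.opensRange A)))).1 ?_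
  refine Groth.Agent.FormalB.ModPowAff2.hom_ext_of_affine_cover hq _ _ fun x => ?_
  have : IsAffine (W : Scheme.{u}) := hW
  refine ⟨⊤, trivial, isAffineOpen_top _, fun m => ?_⟩
  have hle : W.ι ''ᵁ ⊤ ≤ W := W.ι_image_le ⊤
  have hge : W ≤ W.ι ''ᵁ ⊤ := by
    rw [Scheme.Opens.ι_image_top]
  have key : ∀ t : Γ((TF W.ι.opensRange).obj A, W.ι ''ᵁ ⊤), φ.app (W.ι ''ᵁ ⊤) t = ψ.app (W.ι ''ᵁ ⊤) t := by
    intro t
    have e : t = rs _ hle (rs _ hge t) := by rw [rs_rs, rs_self]
    rw [e]
    exact (rs_app φ hle _).symm.trans ((congrArg (rs B hle) (h _)).trans (rs_app ψ hle _))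
  exact key _

/-- Morphisms over an affine `W` out of `A` with projective sections lift along epimorphisms with quasi-coherent
kernel. -/
theorem exists_lift {A : X.Modules} (hA : Coh.IsQCoh A) {W : X.Opens} (hW : IsAffineOpen W)
    (hP : Module.Projective Γ(X, W) Γ(A, W)) {S : ShortComplex X.Modules} (hS : S.ShortExact)
    (hS1 : Coh.IsQCoh S.X₁) (h : (TF W).obj A ⟶ S.X₃) : ∃ h' : (TF W).obj A ⟶ S.X₂, h' ≫ S.g = h := by
  have hb := inc_app_bijective_of_le W A (le_refl W)
  let ei : Γ((TF W).obj A, W) ≃+ Γ(A, W) :=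
    AddEquiv.ofBijective ((inc W A).app W).hom hb
  let hl : Γ(A, W) →ₗ[Γ(X, W)] Γ(S.X₃, W) :=
    { toFun := fun a => h.app W (ei.symm a)
      map_add' := fun a b => by rw [map_add]; exact map_add _ _ _
      map_smul' := fun r a => by
        have e1 : ei.symm (r • a) = r • ei.symm a := by
          apply ei.injective
          rw [ei.apply_symm_apply]
          have := Scheme.Modules.Hom.app_smul (inc W A) r (ei.symm a)
          refine Eq.trans ?_ this.symm
          congr 1
          exact (ei.apply_symm_apply a).symm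
        rw [e1]
        exact Scheme.Modules.Hom.app_smul h r _ }
  let gl : Γ(S.X₂, W) →ₗ[Γ(X, W)] Γ(S.X₃, W) :=
    { toFun := fun a => S.g.app W a
      map_add' := fun a b => map_add _ _ _
      map_smul' := fun r a => Scheme.Modules.Hom.app_smul S.g r a }
  have hg : Function.Surjective gl := Groth.Agent.PerfA.QCohExt.app_surjective hS hS1 W hW
  obtain ⟨l, hl'⟩ := Module.projective_lifting_property gl hl hg
  obtain ⟨φ, hφ⟩ := exists_hom hA S.X₂ hW l
  refine ⟨φ, hom_ext hA hW _ _ fun s => ?_⟩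
  have e1 : (φ ≫ S.g).app W s = gl (φ.app W s) := rfl
  rw [e1, hφ]
  have e2 := congrArg (fun f => f ((inc W A).app W s)) hl'
  refine e2.trans ?_
  change h.app W (ei.symm (ei s)) = _
  rw [ei.symm_apply_apply]

end K774.LocHom
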