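import Groth.Agent.BunMod.K774.CechExt
import Groth.Agent.VarietyB.TensLoc
import Mathlib.LinearAlgebra.Trace

/-!
# Sections of morphisms over an open subset

* `sec φ h : Γ(A, V) →ₗ Γ(B, V)` for `φ : TF W A ⟶ B` and `V ≤ W`.
* `exists_factor_traceless`: `σ : L ⟶ A` with `σ(n) = e₀` for a frame `n` of `L` and a frame `e₀, …` of `A` over `W`,
  then every `ψ : TF D L ⟶ A` (`D ≤ W` affine) factors as `TF D σ ≫ φ` with `φ` traceless if the rank is `≥ 2`.
-/

set_option autoImplicit false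

universe w u

open CategoryTheory CategoryTheory.Limits AlgebraicGeometry Opposite TopologicalSpace Abelian

namespace K774.Sec

open Groth.Agent.PerfC.ExtZero Groth.Agent.PerfA.TFMV K774.LocHom
open Groth.Agent.VarietyB.TensLoc (IsBasis)

variable {X : Scheme.{u}} {A B C : X.Modules} {W V : X.Opens}

/-- Sections of `TF W A` over `V ≤ W`. -/
noncomputable def incE (A : X.Modules) (h : V ≤ W) : Γ((TF W).obj A, V) ≃ₗ[Γ(X, V)] Γ(A, V) :=
  LinearEquiv.ofBijective
    { toFun := fun s => (inc W A).app V s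
      map_add' := fun _ _ => map_add _ _ _
      map_smul' := fun r s => Scheme.Modules.Hom.app_smul (inc W A) r s }
    (inc_app_bijective_of_le W A h)

theorem incE_apply (A : X.Modules) (h : V ≤ W) (s : Γ((TF W).obj A, V)) : incE A h s = (inc W A).app V s := rfl

theorem inc_symm (A : X.Modules) (h : V ≤ W) (s : Γ(A, V)) : (inc W A).app V ((incE A h).symm s) = s :=
  (incE A h).apply_symm_apply s

/-- The map on sections over `V ≤ W` of a morphism over `W`. -/
noncomputable def sec (φ : (TF W).obj A ⟶ B) (h : V ≤ W) : Γ(A, V) →ₗ[Γ(X, V)] Γ(B, V) where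
  toFun s := φ.app V ((incE A h).symm s)
  map_add' s t := by rw [map_add]; exact map_add _ _ _
  map_smul' r s := by rw [map_smul]; exact Scheme.Modules.Hom.app_smul φ r _

theorem sec_apply (φ : (TF W).obj A ⟶ B) (h : V ≤ W) (s : Γ(A, V)) : sec φ h s = φ.app V ((incE A h).symm s) := rfl

theorem sec_inc (φ : (TF W).obj A ⟶ B) (h : V ≤ W) (s : Γ((TF W).obj A, V)) :
    sec φ h ((inc W A).app V s) = φ.app V s := by
  rw [sec_apply]
  congr 1
  exact (incE A h).symm_apply_apply s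

theorem incE_symm_rs (A : X.Modules) (h : V ≤ W) {V' : X.Opens} (h' : V' ≤ V) (s : Γ(A, V)) :
    rs _ h' ((incE A h).symm s) = (incE A (h'.trans h)).symm (rs A h' s) := by
  rw [LinearEquiv.eq_symm_apply, incE_apply, ← rs_app, inc_symm]

theorem sec_rs (φ : (TF W).obj A ⟶ B) (h : V ≤ W) {V' : X.Opens} (h' : V' ≤ V) (s : Γ(A, V)) :
    rs B h' (sec φ h s) = sec φ (h'.trans h) (rs A h' s) := by
  rw [sec_apply, sec_apply, rs_app, incE_symm_rs]

theorem sec_comp (φ : (TF W).obj A ⟶ B) (β : B ⟶ C) (h : V ≤ W) (s : Γ(A, V)) :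
    sec (φ ≫ β) h s = β.app V (sec φ h s) := rfl

theorem sec_map (α : A ⟶ B) (φ : (TF W).obj B ⟶ C) (h : V ≤ W) (s : Γ(A, V)) :
    sec ((TF W).map α ≫ φ) h s = sec φ h (α.app V s) := by
  have h1 : (inc W B).app V (((TF W).map α).app V ((incE A h).symm s)) = α.app V s := by
    have := congrArg (fun z => z.app V ((incE A h).symm s)) (TF_map_inc W α)
    refine (show _ = _ from this).trans ?_
    change α.app V ((inc W A).app V ((incE A h).symm s)) = _
    rw [inc_symm]
  rw [← h1, sec_inc]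
  rfl

theorem sec_add (φ ψ : (TF W).obj A ⟶ B) (h : V ≤ W) : sec (φ + ψ) h = sec φ h + sec ψ h := rfl

theorem sec_mapLE {W' : X.Opens} (hW : W' ≤ W) (φ : (TF W).obj A ⟶ B) (h : V ≤ W') (s : Γ(A, V)) :
    sec (mapLE hW A ≫ φ) h s = sec φ (h.trans hW) s := by
  have h1 : (inc W A).app V ((mapLE hW A).app V ((incE A h).symm s)) = s := by
    have := congrArg (fun z => z.app V ((incE A h).symm s)) (mapLE_inc hW A)
    exact (show _ = _ from this).trans (inc_symm A h s)
  conv_rhs => rw [← h1, sec_inc]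
  rfl

theorem sec_incl (β : A ⟶ B) (h : V ≤ W) (s : Γ(A, V)) : sec (inc W A ≫ β) h s = β.app V s := by
  rw [sec_comp]
  congr 1
  exact inc_symm A h s

/-- Morphisms over `W` factor through `TF W`. -/
theorem fac (φ : (TF W).obj A ⟶ B) : Fac W φ := fun V s => LocZero.app φ (suppIn_T W A V s)

/-- Morphisms over `W` as morphisms of the submodules `TF W`. -/
noncomputable def lft (φ : (TF W).obj A ⟶ B) : (TF W).obj A ⟶ (TF W).obj B := liftT φ (fac φ)

theorem lft_inc (φ : (TF W).obj A ⟶ B) : lft φ ≫ inc W B = φ := liftT_inc _ _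

theorem sec_lft (φ : (TF W).obj A ⟶ B) (ψ : (TF W).obj B ⟶ C) (h : V ≤ W) (s : Γ(A, V)) :
    sec (lft φ ≫ ψ) h s = sec ψ h (sec φ h s) := by
  have h1 : (inc W B).app V ((lft φ).app V ((incE A h).symm s)) = sec φ h s := by
    have := congrArg (fun z => z.app V ((incE A h).symm s)) (lft_inc φ)
    exact (show _ = _ from this)
  rw [← h1, sec_inc]
  rfl

/-- Morphisms over an affine `W` out of a quasi-coherent module agree if they agree on sections over `W`. -/
theorem ext_sec (hA : Coh.IsQCoh A) (hW : IsAffineOpen W) {φ ψ : (TF W).obj A ⟶ B}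
    (h : ∀ s : Γ(A, W), sec φ le_rfl s = sec ψ le_rfl s) : φ = ψ := by
  refine hom_ext hA hW φ ψ fun s => ?_
  rw [← sec_inc φ le_rfl, ← sec_inc ψ le_rfl, h]

/-- Linear maps on sections over an affine `W` come from morphisms over `W`. -/
theorem exists_sec (hA : Coh.IsQCoh A) (hW : IsAffineOpen W) (l : Γ(A, W) →ₗ[Γ(X, W)] Γ(B, W)) :
    ∃ φ : (TF W).obj A ⟶ B, sec φ le_rfl = l := by
  obtain ⟨φ, hφ⟩ := exists_hom hA B hW l
  refine ⟨φ, LinearMap.ext fun s => ?_⟩
  rw [sec_apply, hφ, inc_symm]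

/-- Morphisms over an affine `W` out of a module with a frame with given values. -/
theorem exists_values (hA : Coh.IsQCoh A) {D : X.Opens} (hD : IsAffineOpen D) (hDW : D ≤ W) {n : ℕ}
    {e : Fin n → Γ(A, W)} (he : IsBasis A W e) (t : Fin n → Γ(B, D)) :
    ∃ φ : (TF D).obj A ⟶ B, ∀ i, sec φ le_rfl (rs A hDW (e i)) = t i := by
  obtain ⟨φ, hφ⟩ := exists_sec hA hD ((he.basis hDW).constr Γ(X, D) t)
  refine ⟨φ, fun i => ?_⟩
  have h := Groth.Agent.VarietyB.TensLoc.IsBasis.basis_apply he hDW i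
  rw [hφ]
  exact (congrArg _ h.symm).trans (Module.Basis.constr_basis _ _ _ _)

/-- Factorization through a morphism which maps a frame of an invertible module to the first member of a frame. -/
theorem exists_factor (hA : Coh.IsQCoh A) {L : X.Modules} (hL : Coh.IsQCoh L) {D : X.Opens} (hD : IsAffineOpen D)
    (hDW : D ≤ W) (σ : L ⟶ A) {n : ℕ} {e : Fin (n + 1) → Γ(A, W)} (he : IsBasis A W e) {l : Fin 1 → Γ(L, W)}
    (hl : IsBasis L W l) (hσ : σ.app W (l 0) = e 0) (ψ : (TF D).obj L ⟶ B) :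
    ∃ φ : (TF D).obj A ⟶ B, (TF D).map σ ≫ φ = ψ := by
  obtain ⟨φ, hφ⟩ := exists_values hA hD hDW he
    (fun i => if i = 0 then sec ψ le_rfl (rs L hDW (l 0)) else (0 : Γ(B, D)))
  refine ⟨φ, ext_sec hL hD fun s => ?_⟩
  have h0 : sec φ le_rfl (σ.app D (rs L hDW (l 0))) = sec ψ le_rfl (rs L hDW (l 0)) := by
    rw [← rs_app, hσ, hφ, if_pos rfl]
  obtain ⟨a, ha⟩ := (hl D hDW).2 s
  have hs : s = a 0 • rs L hDW (l 0) := by
    rw [← ha]
    exact Fin.sum_univ_one _
  rw [sec_map, hs]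
  have e1 : σ.app D (a 0 • rs L hDW (l 0)) = a 0 • σ.app D (rs L hDW (l 0)) := Scheme.Modules.Hom.app_smul σ _ _
  rw [e1, map_smul, map_smul, h0]

/-- The same with a traceless endomorphism. -/
theorem exists_factor_traceless (hA : Coh.IsQCoh A) {L : X.Modules} (hL : Coh.IsQCoh L) {D : X.Opens}
    (hD : IsAffineOpen D) (hDW : D ≤ W) (σ : L ⟶ A) {n : ℕ} {e : Fin (n + 2) → Γ(A, W)} (he : IsBasis A W e)
    {l : Fin 1 → Γ(L, W)} (hl : IsBasis L W l) (hσ : σ.app W (l 0) = e 0) (ψ : (TF D).obj L ⟶ A) :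
    ∃ φ : (TF D).obj A ⟶ A, (TF D).map σ ≫ φ = ψ ∧
      LinearMap.trace Γ(X, D) Γ(A, D) (sec φ le_rfl) = 0 := by
  classical
  let b := he.basis hDW
  have hb : ∀ i, b i = rs A hDW (e i) := Groth.Agent.VarietyB.TensLoc.IsBasis.basis_apply he hDW
  let β : Γ(A, D) := sec ψ le_rfl (rs L hDW (l 0))
  obtain ⟨φ, hφ⟩ := exists_values hA hD hDW he
    (fun i => if i = 0 then β else if i = 1 then -(b.repr β 0) • b 1 else (0 : Γ(A, D)))
  refine ⟨φ, ext_sec hL hD fun s => ?_, ?_⟩
  · have h0 : sec φ le_rfl (σ.app D (rs L hDW (l 0))) = sec ψ le_rfl (rs L hDW (l 0)) := by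
      rw [← rs_app, hσ, hφ, if_pos rfl]
    obtain ⟨a, ha⟩ := (hl D hDW).2 s
    have hs : s = a 0 • rs L hDW (l 0) := by
      rw [← ha]
      exact Fin.sum_univ_one _
    rw [sec_map, hs]
    have e1 : σ.app D (a 0 • rs L hDW (l 0)) = a 0 • σ.app D (rs L hDW (l 0)) := Scheme.Modules.Hom.app_smul σ _ _
    rw [e1, map_smul, map_smul, h0]
  · rw [LinearMap.trace_eq_matrix_trace _ b, Matrix.trace]
    simp only [Matrix.diag_apply, LinearMap.toMatrix_apply]
    have hv : ∀ i, sec φ le_rfl (b i) =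
        if i = 0 then β else if i = 1 then -(b.repr β 0) • b 1 else (0 : Γ(A, D)) := by
      intro i
      rw [hb, hφ]
    have hz : ∀ i : Fin (n + 2), i ≠ 0 → i ≠ 1 → b.repr (sec φ le_rfl (b i)) i = 0 := by
      intro i h0 h1
      rw [hv, if_neg h0, if_neg h1, map_zero, Finsupp.zero_apply]
    rw [Fin.sum_univ_succ, Fin.sum_univ_succ]
    have hrest : ∑ i : Fin n, b.repr (sec φ le_rfl (b i.succ.succ)) i.succ.succ = 0 := by
      refine Finset.sum_eq_zero fun i _ => hz _ ?_ ?_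
      · exact Fin.succ_ne_zero _
      · intro h
        have : (i.succ : Fin (n + 1)) = 0 := Fin.succ_injective _ (h.trans (by rfl))
        exact Fin.succ_ne_zero _ this
    have h1 : b.repr (sec φ le_rfl (b (Fin.succ 0))) (Fin.succ 0) = -(b.repr β 0) := by
      have h10 : (Fin.succ 0 : Fin (n + 2)) = 1 := rfl
      have h11 : (1 : Fin (n + 2)) ≠ 0 := by
        intro h
        have := congrArg Fin.val h
        simp at this
      rw [h10, hv, if_neg h11, if_pos rfl, map_smul, b.repr_self]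
      simp
    have h0 : b.repr (sec φ le_rfl (b 0)) 0 = b.repr β 0 := by
      rw [hv, if_pos rfl]
    rw [h0, h1, hrest]
    ring

end K774.Sec
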